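import Mathlib

set_option autoImplicit false

namespace Cfsg.Agent.Lib.Helper64

/-- geometric sum `1 + ρ + ⋯ + ρ^(M-1)`. -/
def geo (ρ M : ℕ) : ℕ := ∑ t ∈ Finset.range M, ρ ^ t

@[simp] theorem geo_zero (ρ : ℕ) : geo ρ 0 = 0 := by simp [geo]

@[simp] theorem geo_one_right (ρ : ℕ) : geo ρ 1 = 1 := by simp [geo]

theorem geo_succ (ρ M : ℕ) : geo ρ (M + 1) = geo ρ M + ρ ^ M := by
  simp [geo, Finset.sum_range_succ]

theorem geo_succ' (ρ M : ℕ) : geo ρ (M + 1) = 1 + ρ * geo ρ M := by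
  simp only [geo]
  rw [Finset.sum_range_succ', Finset.mul_sum, add_comm]
  simp [pow_succ, mul_comm]

theorem geo_one_left (M : ℕ) : geo 1 M = M := by simp [geo]

theorem pow_eq_one_add_mul_geo (κ M : ℕ) : (1 + κ) ^ M = 1 + κ * geo (1 + κ) M := by
  induction M with
  | zero => simp
  | succ M ih =>
    rw [geo_succ, pow_succ, Nat.mul_add κ, ← add_assoc, ← ih]; ring

theorem geo_add (ρ M K : ℕ) : geo ρ (M + K) = geo ρ M + ρ ^ M * geo ρ K := by
  induction K with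
  | zero => simp
  | succ K ih => rw [← add_assoc, geo_succ, ih, geo_succ, pow_add]; ring

theorem geo_mul (ρ M K : ℕ) : geo ρ (M * K) = geo ρ M * geo (ρ ^ M) K := by
  induction K with
  | zero => simp
  | succ K ih => rw [mul_add, mul_one, geo_add, ih, geo_succ, ← pow_mul]; ring

theorem pow_dvd_geo_iff {p : ℕ} [hpp : Fact p.Prime] (hp : p ≠ 2) {ρ : ℕ} (hρ : ρ ≡ 1 [MOD p])
    (M s : ℕ) : p ^ s ∣ geo ρ M ↔ p ^ s ∣ M := by
  have hprime : Prime p := hpp.out.prime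
  have hodd : Odd p := hpp.out.odd_of_ne_two hp
  have h0 : ρ ≠ 0 := by
    rintro rfl
    have : p ∣ 1 := (Nat.modEq_zero_iff_dvd.1 hρ.symm)
    exact hpp.out.one_lt.ne' (Nat.dvd_one.1 this)
  obtain ⟨κ, rfl⟩ : ∃ κ, ρ = 1 + κ := ⟨ρ - 1, by omega⟩
  rcases Nat.eq_zero_or_pos κ with rfl | hκ
  · simp [geo_one_left]
  have hdvd : p ∣ κ := by
    have := (Nat.modEq_iff_dvd' (by omega : 1 ≤ 1 + κ)).1 hρ.symm
    simpa using this
  have hnd : ¬ p ∣ 1 + κ := by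
    intro h
    have : p ∣ 1 := (Nat.dvd_add_left hdvd).1 h
    exact hpp.out.one_lt.ne' (Nat.dvd_one.1 this)
  have key := Nat.emultiplicity_pow_sub_pow hpp.out hodd (x := 1 + κ) (y := 1) (by simpa using hdvd) hnd M
  have e1 : (1 + κ) ^ M - 1 ^ M = κ * geo (1 + κ) M := by
    rw [pow_eq_one_add_mul_geo]; simp
  rw [e1, emultiplicity_mul hprime] at key
  have e2 : 1 + κ - 1 = κ := by omega
  rw [e2] at key
  have hfin : emultiplicity p κ ≠ ⊤ := by
    rw [← finiteMultiplicity_iff_emultiplicity_ne_top]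
    exact Nat.finiteMultiplicity_iff.2 ⟨hpp.out.ne_one, hκ⟩
  have key2 : emultiplicity p (geo (1 + κ) M) = emultiplicity p M :=
    ENat.add_right_injective_of_ne_top hfin key
  rw [pow_dvd_iff_le_emultiplicity, pow_dvd_iff_le_emultiplicity, key2]

/-- if `p^n ∣ x*y` and `p^(c+1) ∤ x` with `s + c ≤ n` then `p^s ∣ y`. -/
theorem pow_dvd_of_pow_dvd_mul {p : ℕ} [hpp : Fact p.Prime] {n c s x y : ℕ} (h : p ^ n ∣ x * y)
    (hx : ¬ p ^ (c + 1) ∣ x) (hs : s + c ≤ n) : p ^ s ∣ y := by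
  rcases Nat.eq_zero_or_pos y with rfl | hy
  · simp
  have hx0 : x ≠ 0 := by rintro rfl; simp at hx
  rw [padicValNat_dvd_iff_le (by positivity), padicValNat.mul hx0 hy.ne'] at h
  rw [padicValNat_dvd_iff_le hx0] at hx
  rw [padicValNat_dvd_iff_le hy.ne']
  omega

end Cfsg.Agent.Lib.Helper64
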