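import Mathlib

set_option autoImplicit false

namespace Cfsg.Agent.Lib.Helper64

open Subgroup
open scoped Pointwise

variable {G : Type*} [Group G]

theorem relIndex_mul_card {H K : Subgroup G} (h : H ≤ K) :
    H.relIndex K * Nat.card H = Nat.card K := by
  rw [← relIndex_bot_left, ← relIndex_bot_left, mul_comm]
  exact relIndex_mul_relIndex _ _ _ bot_le h

/-- `|T : R ∩ T|` divides `|G : R|` when `T` is normal. -/
theorem relIndex_dvd_index_of_normal_right [Finite G] (R T : Subgroup G) [T.Normal] :
    R.relIndex T ∣ R.index := by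
  have h1 : R.relIndex T * Nat.card ↥(R ⊓ T) = Nat.card T := by
    rw [← inf_relIndex_right]
    exact relIndex_mul_card inf_le_right
  have h2 : T.relIndex R * Nat.card ↥(R ⊓ T) = Nat.card R := by
    rw [← inf_relIndex_left]
    exact relIndex_mul_card inf_le_left
  have h3 : T.relIndex R * Nat.card T = Nat.card ↥(T ⊔ R) := by
    rw [← relIndex_sup_left]
    exact relIndex_mul_card le_sup_left
  have h4 : Nat.card ↥(T ⊔ R) * (T ⊔ R).index = Nat.card G := card_mul_index _
  have h5 : Nat.card R * R.index = Nat.card G := card_mul_index _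
  have hpos : 0 < Nat.card R := Nat.card_pos
  refine ⟨(T ⊔ R).index, ?_⟩
  apply Nat.eq_of_mul_eq_mul_left hpos
  rw [h5, ← h4, ← h3, ← h1, ← h2]
  ring

theorem exists_sylow_subgroupOf_normal [Finite G] {p : ℕ} [Fact p.Prime] (R : Sylow p G)
    (T : Subgroup G) [T.Normal] : ∃ Q : Sylow p T, (Q : Subgroup T) = (R : Subgroup G).subgroupOf T := by
  have hp : IsPGroup p ((R : Subgroup G).subgroupOf T) :=
    R.2.comap_of_injective T.subtype T.subtype_injective
  have hidx : ¬ p ∣ ((R : Subgroup G).subgroupOf T).index := by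
    intro h
    exact R.not_dvd_index (h.trans (relIndex_dvd_index_of_normal_right (R : Subgroup G) T))
  exact ⟨hp.toSylow hidx, rfl⟩

/-- Frattini argument for the intersection of a Sylow subgroup with a normal subgroup. -/
theorem normalizer_sylow_inf_sup_eq_top [Finite G] {p : ℕ} [Fact p.Prime] (R : Sylow p G)
    (T : Subgroup G) [T.Normal] :
    normalizer (((R : Subgroup G) ⊓ T : Subgroup G) : Set G) ⊔ T = ⊤ := by
  obtain ⟨Q, hQ⟩ := exists_sylow_subgroupOf_normal R T
  have := Sylow.normalizer_sup_eq_top Q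
  rwa [hQ, subgroupOf_map_subtype] at this

theorem exists_isCoatom_ge [Finite G] (K : Subgroup G) (hK : K ≠ ⊤) :
    ∃ M : Subgroup G, IsCoatom M ∧ K ≤ M :=
  (eq_top_or_exists_le_coatom K).resolve_left hK

/-- A simple `p`-group is commutative. -/
theorem isMulCommutative_of_isPGroup_of_isSimpleGroup [Finite G] {p : ℕ} [Fact p.Prime]
    (hp : IsPGroup p G) [IsSimpleGroup G] : IsMulCommutative G := by
  have : Nontrivial G := IsSimpleGroup.toNontrivial
  have hne : center G ≠ ⊥ := by
    have := hp.center_nontrivial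
    exact (Subgroup.nontrivial_iff_ne_bot _).1 this
  have htop : center G = ⊤ := (Subgroup.Normal.eq_bot_or_eq_top inferInstance).resolve_left hne
  refine ⟨⟨fun a b => ?_⟩⟩
  have ha : a ∈ center G := htop ▸ mem_top a
  exact ((mem_center_iff.1 ha) b).symm

/-- Two Sylow subgroups of `G` contained in `M` are conjugate by an element of `M`. -/
theorem exists_mem_smul_eq_of_le [Finite G] {p : ℕ} [Fact p.Prime] (R S : Sylow p G)
    (M : Subgroup G) (hR : (R : Subgroup G) ≤ M) (hS : (S : Subgroup G) ≤ M) :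
    ∃ m ∈ M, m • R = S := by
  obtain ⟨m, hm⟩ := MulAction.exists_smul_eq M (R.subtype hR) (S.subtype hS)
  refine ⟨m, m.2, ?_⟩
  rw [Sylow.smul_subtype hR m] at hm
  exact Sylow.subtype_injective hm

/-- A subgroup of index prime to `p` contains a Sylow `p`-subgroup. -/
theorem exists_sylow_le_of_not_dvd_index [Finite G] {p : ℕ} [Fact p.Prime] (M : Subgroup G)
    (hM : ¬ p ∣ M.index) : ∃ S : Sylow p G, (S : Subgroup G) ≤ M := by
  obtain ⟨Q⟩ : Nonempty (Sylow p M) := inferInstance
  have hp : IsPGroup p ((Q : Subgroup M).map M.subtype) := Q.2.map _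
  have hidx : ¬ p ∣ ((Q : Subgroup M).map M.subtype).index := by
    rw [index_map_subtype]
    intro h
    rcases (Nat.Prime.dvd_mul Fact.out).1 h with h | h
    · exact Q.not_dvd_index h
    · exact hM h
  exact ⟨hp.toSylow hidx, map_subtype_le _⟩

theorem exists_smul_sylow_le_of_not_dvd_index [Finite G] {p : ℕ} [Fact p.Prime] (R : Sylow p G)
    (M : Subgroup G) (hM : ¬ p ∣ M.index) : ∃ g : G, ((g • R : Sylow p G) : Subgroup G) ≤ M := by
  obtain ⟨S, hS⟩ := exists_sylow_le_of_not_dvd_index (p := p) M hM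
  obtain ⟨g, hg⟩ := MulAction.exists_smul_eq G R S
  exact ⟨g, hg ▸ hS⟩

theorem isCoatom_conj_smul {M : Subgroup G} (hM : IsCoatom M) (g : G) :
    IsCoatom (MulAut.conj g • M) := by
  refine ⟨?_, ?_⟩
  · intro h
    apply hM.1
    have : (MulAut.conj g)⁻¹ • (MulAut.conj g • M) = (MulAut.conj g)⁻¹ • (⊤ : Subgroup G) := by rw [h]
    rw [inv_smul_smul] at this
    rw [this]
    exact top_le_iff.1 (fun x _ => by
      rw [Subgroup.mem_inv_pointwise_smul_iff]; exact mem_top _)
  · intro K hK
    have h1 : M < (MulAut.conj g)⁻¹ • K := by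
      constructor
      · rw [← Subgroup.pointwise_smul_subset_iff]; exact hK.le
      · intro h
        rw [← Subgroup.subset_pointwise_smul_iff] at h
        exact hK.not_ge h
    have h2 := hM.2 _ h1
    have : (MulAut.conj g) • ((MulAut.conj g)⁻¹ • K) = (MulAut.conj g) • (⊤ : Subgroup G) := by rw [h2]
    rw [smul_inv_smul] at this
    rw [this]
    exact top_le_iff.1 (fun x _ => by
      rw [Subgroup.mem_pointwise_smul_iff_inv_smul_mem]; exact mem_top _)

end Cfsg.Agent.Lib.Helper64
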