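import Mathlib
import Cfsg.Agent.Lib.Helper64.Sylow
import Cfsg.Agent.Lib.Helper64.MetaArith

set_option autoImplicit false

namespace Cfsg.Agent.Lib.Helper64

open Subgroup

variable {G : Type*} [Group G]

theorem card_eq_card_inf_mul_card_map (H N : Subgroup G) [N.Normal] :
    Nat.card H = Nat.card ↥(N ⊓ H) * Nat.card ↥(H.map (QuotientGroup.mk' N)) := by
  have h1 := relIndex_ker (QuotientGroup.mk' N) (K := H)
  rw [QuotientGroup.ker_mk'] at h1
  rw [← h1, ← inf_relIndex_right, mul_comm]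
  exact (relIndex_mul_card inf_le_right).symm

theorem exists_pow_of_mem_zpowers [Finite G] {a x : G} (h : x ∈ zpowers a) : ∃ j : ℕ, x = a ^ j := by
  rw [← mem_powers_iff_mem_zpowers] at h
  obtain ⟨j, hj⟩ := h
  exact ⟨j, hj.symm⟩

/-- elements of order dividing `p^e` in a cyclic group of order `p^m`. -/
theorem mem_zpowers_pow_of_pow_eq_one [Finite G] {p : ℕ} [hp : Fact p.Prime] {a x : G} {m e : ℕ}
    (ha : orderOf a = p ^ m) (hx : x ∈ zpowers a) (he : x ^ p ^ e = 1) :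
    x ∈ zpowers (a ^ p ^ (m - e)) := by
  obtain ⟨j, rfl⟩ := exists_pow_of_mem_zpowers hx
  rw [← pow_mul] at he
  have h1 : p ^ m ∣ j * p ^ e := ha ▸ orderOf_dvd_of_pow_eq_one he
  have h2 : p ^ (m - e) ∣ j := by
    rcases le_total e m with h | h
    · have : p ^ m = p ^ (m - e) * p ^ e := by rw [← pow_add]; congr 1; omega
      rw [this] at h1
      exact Nat.dvd_of_mul_dvd_mul_right (pow_pos hp.out.pos e) h1
    · simp [Nat.sub_eq_zero_of_le h]
  obtain ⟨j', rfl⟩ := h2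
  rw [pow_mul]
  exact Subgroup.pow_mem _ (mem_zpowers _) _

theorem orderOf_pow_prime_pow {p : ℕ} [hp : Fact p.Prime] {a : G} {m s : ℕ}
    (ha : orderOf a = p ^ m) (hs : s ≤ m) : orderOf (a ^ p ^ s) = p ^ (m - s) := by
  rw [orderOf_pow_of_dvd (pow_ne_zero _ hp.out.ne_zero) (ha ▸ pow_dvd_pow p hs), ha,
    Nat.pow_div hs hp.out.pos]

/-- subgroups of a cyclic group of order `p^m`. -/
theorem exists_eq_zpowers_pow_of_le_zpowers [Finite G] {p : ℕ} [hp : Fact p.Prime] {a : G} {m : ℕ}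
    (ha : orderOf a = p ^ m) (H : Subgroup G) (hH : H ≤ zpowers a) :
    ∃ s ≤ m, H = zpowers (a ^ p ^ s) := by
  have h1 : Nat.card H ∣ p ^ m := by
    rw [← ha, ← Nat.card_zpowers]; exact Subgroup.card_dvd_of_le hH
  obtain ⟨e, he, hc⟩ := (Nat.dvd_prime_pow hp.out).1 h1
  refine ⟨m - e, by omega, ?_⟩
  apply Subgroup.eq_of_le_of_card_ge
  · intro x hx
    apply mem_zpowers_pow_of_pow_eq_one ha (hH hx)
    rw [← hc]
    have := pow_card_eq_one' (x := (⟨x, hx⟩ : H))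
    exact congrArg Subtype.val this
  · rw [Nat.card_zpowers, orderOf_pow_prime_pow ha (by omega), hc]
    apply le_of_eq; congr 1; omega

/-- bound for the number of `H`-conjugates of `g`. -/
theorem relIndex_centralizer_le (H : Subgroup G) (g : G) (T : Set G) (hT : T.Finite)
    (h : ∀ c ∈ H, c * g * c⁻¹ * g⁻¹ ∈ T) : (centralizer {g}).relIndex H ≤ T.ncard := by
  have : Finite T := hT
  rw [← Nat.card_coe_set_eq]
  let f : (H ⧸ (centralizer {g}).subgroupOf H) → T := fun q => ⟨_, h q.out q.out.2⟩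
  apply Nat.card_le_card_of_injective f
  intro q q' hq
  have h1 : (q.out : G) * g * (q.out : G)⁻¹ * g⁻¹ = (q'.out : G) * g * (q'.out : G)⁻¹ * g⁻¹ :=
    congrArg Subtype.val hq
  rw [← q.out_eq', ← q'.out_eq', QuotientGroup.eq, mem_subgroupOf, mem_centralizer_singleton_iff]
  simp only [Subgroup.coe_mul, Subgroup.coe_inv]
  have h2 : (q.out : G) * g * (q.out : G)⁻¹ = (q'.out : G) * g * (q'.out : G)⁻¹ :=
    mul_right_cancel h1
  have h3 : g * ((q.out : G)⁻¹ * q'.out) = (q.out : G)⁻¹ * ((q.out : G) * g * (q.out : G)⁻¹) * q'.out := by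
    group
  rw [h3, h2]; group

theorem commutator_pow_right {N : Subgroup G} (c g : G) (ρ : ℕ) (hu : c * g * c⁻¹ * g⁻¹ ∈ N)
    (hρ : ∀ x ∈ N, g * x * g⁻¹ = x ^ ρ) (M : ℕ) :
    c * g ^ M * c⁻¹ * (g ^ M)⁻¹ = (c * g * c⁻¹ * g⁻¹) ^ geo ρ M := by
  induction M with
  | zero => simp
  | succ M ih =>
    have h1 : c * g ^ (M + 1) * c⁻¹ * (g ^ (M + 1))⁻¹ =
        (c * g * c⁻¹ * g⁻¹) * (g * (c * g ^ M * c⁻¹ * (g ^ M)⁻¹) * g⁻¹) := by
      rw [pow_succ']; group
    rw [h1, ih, hρ _ (N.pow_mem hu _), geo_succ', pow_add, pow_one, ← pow_mul, mul_comm ρ]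

theorem pow_mul_pow_of_conj {x y : G} {ρ : ℕ} (h : y * x * y⁻¹ = x ^ ρ) (i j : ℕ) :
    y ^ i * x ^ j = x ^ (j * ρ ^ i) * y ^ i := by
  have h1 : ∀ j : ℕ, y * x ^ j = x ^ (j * ρ) * y := by
    intro j
    have : y * x ^ j * y⁻¹ = x ^ (j * ρ) := by
      rw [← conj_pow, h, ← pow_mul, mul_comm]
    rw [← this]; group
  induction i generalizing j with
  | zero => simp
  | succ i ih =>
    rw [pow_succ', mul_assoc, ih, ← mul_assoc, h1, mul_assoc, pow_succ, mul_assoc]

theorem mul_pow_of_conj {x y : G} {ρ : ℕ} (h : y * x * y⁻¹ = x ^ ρ) (M : ℕ) :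
    (x * y) ^ M = x ^ geo ρ M * y ^ M := by
  induction M with
  | zero => simp
  | succ M ih =>
    have h1 := pow_mul_pow_of_conj h M 1
    rw [pow_one, one_mul] at h1
    rw [pow_succ, ih, mul_assoc, ← mul_assoc (y ^ M), h1, geo_succ, pow_add, pow_succ]
    simp only [mul_assoc]

/-- in a finite group, a multiplicatively closed subset containing `1` is a subgroup. -/
def subgroupOfMulClosed [Finite G] (S : Set G) (h1 : (1 : G) ∈ S)
    (hmul : ∀ x ∈ S, ∀ y ∈ S, x * y ∈ S) : Subgroup G where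
  carrier := S
  mul_mem' := fun hx hy => hmul _ hx _ hy
  one_mem' := h1
  inv_mem' := by
    intro x hx
    have hpow : ∀ n : ℕ, x ^ n ∈ S := by
      intro n
      induction n with
      | zero => simpa using h1
      | succ n ih => rw [pow_succ]; exact hmul _ ih _ hx
    have : x⁻¹ = x ^ (orderOf x - 1) := by
      apply inv_eq_of_mul_eq_one_left
      rw [← pow_succ, Nat.sub_add_cancel (orderOf_pos x), pow_orderOf_eq_one]
    rw [this]; exact hpow _

@[simp] theorem mem_subgroupOfMulClosed [Finite G] {S : Set G} {h1 : (1 : G) ∈ S}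
    {hmul : ∀ x ∈ S, ∀ y ∈ S, x * y ∈ S} {x : G} : x ∈ subgroupOfMulClosed S h1 hmul ↔ x ∈ S :=
  Iff.rfl

end Cfsg.Agent.Lib.Helper64
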