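import Mathlib
import Cfsg.Prelude
import Cfsg.Agent.Lib.Helper64.MetaGroup

set_option autoImplicit false

namespace Cfsg.Agent.Lib.Helper64

open Subgroup
open scoped commutatorElement

variable {G : Type*} [Group G]

/-- coordinates on a metacyclic `p`-group: `N = ⟨a⟩` normal of order `p^m`, `G/N = ⟨bN⟩` of order
`p^k`, `b a b⁻¹ = a^(1+κ)` with `p ∣ κ`, and `a^κ` (a generator of `G'`) of order `p^n`. -/
structure MetaData (p : ℕ) (a b : G) (κ m k n : ℕ) : Prop where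
  conj : b * a * b⁻¹ = a ^ (1 + κ)
  dvd : p ∣ κ
  gen : ∀ g : G, ∃ j i : ℕ, g = a ^ j * b ^ i
  ha : orderOf a = p ^ m
  hd : orderOf (a ^ κ) = p ^ n
  hb : ∀ i : ℕ, b ^ i ∈ zpowers a ↔ p ^ k ∣ i

namespace MetaData

variable {p : ℕ} {a b : G} {κ m k n : ℕ}

theorem modEq (D : MetaData p a b κ m k n) : 1 + κ ≡ 1 [MOD p] := by
  have := (Nat.modEq_zero_iff_dvd.2 D.dvd).add_left 1
  simpa using this

theorem modEq_pow (D : MetaData p a b κ m k n) (i : ℕ) : (1 + κ) ^ i ≡ 1 [MOD p] := by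
  simpa using D.modEq.pow i

theorem pow_mul_pow (D : MetaData p a b κ m k n) (i j : ℕ) :
    b ^ i * a ^ j = a ^ (j * (1 + κ) ^ i) * b ^ i :=
  pow_mul_pow_of_conj D.conj i j

/-- the multiplication formula. -/
theorem mul_formula (D : MetaData p a b κ m k n) (j i l r : ℕ) :
    (a ^ j * b ^ i) * (a ^ l * b ^ r) =
      (a ^ κ) ^ (l * geo (1 + κ) i) * (a ^ (j + l) * b ^ (i + r)) := by
  calc (a ^ j * b ^ i) * (a ^ l * b ^ r) = a ^ j * (b ^ i * a ^ l) * b ^ r := by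
        simp only [mul_assoc]
    _ = a ^ j * (a ^ (l * (1 + κ) ^ i) * b ^ i) * b ^ r := by rw [D.pow_mul_pow]
    _ = a ^ (j + l * (1 + κ) ^ i) * b ^ (i + r) := by
        rw [pow_add, pow_add]; simp only [mul_assoc]
    _ = a ^ (κ * (l * geo (1 + κ) i) + (j + l)) * b ^ (i + r) := by
        congr 2; rw [pow_eq_one_add_mul_geo]; ring
    _ = _ := by rw [pow_add, pow_mul, mul_assoc]

theorem commute_iff (D : MetaData p a b κ m k n) (j i l r : ℕ) :
    (a ^ j * b ^ i) * (a ^ l * b ^ r) = (a ^ l * b ^ r) * (a ^ j * b ^ i) ↔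
      l * geo (1 + κ) i ≡ j * geo (1 + κ) r [MOD p ^ n] := by
  rw [D.mul_formula, D.mul_formula, add_comm l j, add_comm r i, mul_left_inj,
    pow_eq_pow_iff_modEq, D.hd]

/-- the commutator formula. -/
theorem commutator_formula (D : MetaData p a b κ m k n) (j i l r : ℕ) :
    (a ^ j * b ^ i) * (a ^ l * b ^ r) * (a ^ j * b ^ i)⁻¹ * (a ^ l * b ^ r)⁻¹ =
      (a ^ κ) ^ (l * geo (1 + κ) i) * ((a ^ κ) ^ (j * geo (1 + κ) r))⁻¹ := by
  have h1 := D.mul_formula j i l r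
  have h2 := D.mul_formula l r j i
  rw [add_comm l j, add_comm r i] at h2
  have h3 : (a ^ j * b ^ i) * (a ^ l * b ^ r) * (a ^ j * b ^ i)⁻¹ * (a ^ l * b ^ r)⁻¹ =
      ((a ^ j * b ^ i) * (a ^ l * b ^ r)) * ((a ^ l * b ^ r) * (a ^ j * b ^ i))⁻¹ := by group
  rw [h3, h1, h2]; group

theorem conj_pow_a (D : MetaData p a b κ m k n) (j i l : ℕ) :
    (a ^ j * b ^ i) * a ^ l * (a ^ j * b ^ i)⁻¹ = (a ^ l) ^ ((1 + κ) ^ i) := by
  rw [mul_assoc (a ^ j), D.pow_mul_pow, ← pow_mul, mul_inv_rev]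
  have : a ^ j * (a ^ (l * (1 + κ) ^ i) * b ^ i) * ((b ^ i)⁻¹ * (a ^ j)⁻¹) =
      a ^ j * a ^ (l * (1 + κ) ^ i) * (a ^ j)⁻¹ := by group
  rw [this, ← pow_add, add_comm, pow_add, mul_inv_cancel_right]

theorem normal [Finite G] (D : MetaData p a b κ m k n) : (zpowers a).Normal := by
  constructor
  intro x hx g
  obtain ⟨l, rfl⟩ := exists_pow_of_mem_zpowers hx
  obtain ⟨j, i, rfl⟩ := D.gen g
  rw [D.conj_pow_a]
  exact Subgroup.pow_mem _ (Subgroup.pow_mem _ (mem_zpowers a) _) _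

/-- every element acts on `⟨a⟩` as a power map with exponent `≡ 1 mod p`. -/
theorem exists_conj_exponent [Finite G] (D : MetaData p a b κ m k n) (g : G) :
    ∃ ρ : ℕ, ρ ≡ 1 [MOD p] ∧ ∀ x ∈ zpowers a, g * x * g⁻¹ = x ^ ρ := by
  obtain ⟨j, i, rfl⟩ := D.gen g
  refine ⟨(1 + κ) ^ i, D.modEq_pow i, ?_⟩
  intro x hx
  obtain ⟨l, rfl⟩ := exists_pow_of_mem_zpowers hx
  exact D.conj_pow_a j i l

theorem commutator_mem (D : MetaData p a b κ m k n) (g h : G) :
    g * h * g⁻¹ * h⁻¹ ∈ zpowers (a ^ κ) := by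
  obtain ⟨j, i, rfl⟩ := D.gen g
  obtain ⟨l, r, rfl⟩ := D.gen h
  rw [D.commutator_formula]
  exact Subgroup.mul_mem _ (Subgroup.pow_mem _ (mem_zpowers _) _)
    (Subgroup.inv_mem _ (Subgroup.pow_mem _ (mem_zpowers _) _))

theorem commutator_mem' (D : MetaData p a b κ m k n) (g h : G) :
    g * h * g⁻¹ * h⁻¹ ∈ zpowers a :=
  (zpowers_le.2 (Subgroup.pow_mem _ (mem_zpowers a) κ)) (D.commutator_mem g h)

theorem commutator_eq (D : MetaData p a b κ m k n) : commutator G = zpowers (a ^ κ) := by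
  apply le_antisymm
  · rw [commutator_def, Subgroup.commutator_le]
    intro g _ h _
    rw [commutatorElement_def]
    exact D.commutator_mem g h
  · rw [zpowers_le, commutator_def]
    have h1 : ⁅b, a⁆ ∈ ⁅(⊤ : Subgroup G), ⊤⁆ := commutator_mem_commutator (mem_top b) (mem_top a)
    have h2 : ⁅b, a⁆ = a ^ κ := by
      rw [commutatorElement_def, D.conj, pow_add, pow_one]; group
    rwa [h2] at h1

theorem card_commutator (D : MetaData p a b κ m k n) : Nat.card (commutator G) = p ^ n := by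
  rw [D.commutator_eq, Nat.card_zpowers, D.hd]

theorem orderOf_mk (D : MetaData p a b κ m k n) [(zpowers a).Normal] :
    orderOf (QuotientGroup.mk b : G ⧸ zpowers a) = p ^ k := by
  have h : ∀ i : ℕ, (QuotientGroup.mk b : G ⧸ zpowers a) ^ i = 1 ↔ p ^ k ∣ i := by
    intro i
    rw [← QuotientGroup.mk_pow, QuotientGroup.eq_one_iff, D.hb]
  apply Nat.dvd_antisymm
  · exact orderOf_dvd_of_pow_eq_one ((h _).2 dvd_rfl)
  · exact (h _).1 (pow_orderOf_eq_one _)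

theorem mk_eq (_D : MetaData p a b κ m k n) [(zpowers a).Normal] (j i : ℕ) :
    (QuotientGroup.mk (a ^ j * b ^ i) : G ⧸ zpowers a) = (QuotientGroup.mk b) ^ i := by
  rw [QuotientGroup.mk_mul, QuotientGroup.mk_pow, QuotientGroup.mk_pow,
    (QuotientGroup.eq_one_iff a).2 (mem_zpowers a), one_pow, one_mul]

theorem mem_zpowers_mk (D : MetaData p a b κ m k n) [(zpowers a).Normal] (x : G ⧸ zpowers a) :
    x ∈ zpowers (QuotientGroup.mk b : G ⧸ zpowers a) := by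
  obtain ⟨g, rfl⟩ := QuotientGroup.mk_surjective x
  obtain ⟨j, i, rfl⟩ := D.gen g
  rw [D.mk_eq]
  exact Subgroup.pow_mem _ (mem_zpowers _) _

theorem card_eq [Finite G] (D : MetaData p a b κ m k n) : Nat.card G = p ^ m * p ^ k := by
  have := D.normal
  rw [Subgroup.card_eq_card_quotient_mul_card_subgroup (zpowers a), Nat.card_zpowers, D.ha,
    ← orderOf_eq_card_of_forall_mem_zpowers D.mem_zpowers_mk, D.orderOf_mk, mul_comm]

theorem n_le_m [hp : Fact p.Prime] (D : MetaData p a b κ m k n) : n ≤ m := by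
  have h : orderOf (a ^ κ) ∣ orderOf a := orderOf_pow_dvd κ
  rw [D.ha, D.hd] at h
  exact (Nat.pow_dvd_pow_iff_le_right hp.out.one_lt).1 h

theorem n_le_k [hp : Fact p.Prime] (hp2 : p ≠ 2) [Finite G] (D : MetaData p a b κ m k n) : n ≤ k := by
  obtain ⟨t, ht⟩ := exists_pow_of_mem_zpowers ((D.hb (p ^ k)).2 dvd_rfl)
  have h1 := D.commute_iff 0 (p ^ k) 1 0
  simp only [pow_zero, one_mul, pow_one, mul_one, geo_zero, zero_mul] at h1
  have h2 : b ^ p ^ k * a = a * b ^ p ^ k := by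
    rw [ht, ← pow_succ, ← pow_succ']
  have h3 := h1.1 h2
  rw [Nat.modEq_zero_iff_dvd, pow_dvd_geo_iff hp2 D.modEq] at h3
  exact (Nat.pow_dvd_pow_iff_le_right hp.out.one_lt).1 h3

end MetaData

theorem exists_metaData [Finite G] {p : ℕ} [hp : Fact p.Prime] (hG : IsPGroup p G)
    (hmc : Cfsg.IsMetacyclic G) : ∃ (a b : G) (κ m k n : ℕ), MetaData p a b κ m k n := by
  obtain ⟨N, hN, hNc, hQc⟩ := hmc
  obtain ⟨a0, ha0⟩ := IsCyclic.exists_generator (α := N)
  obtain ⟨b0, hb0⟩ := IsCyclic.exists_generator (α := G ⧸ N)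
  obtain ⟨b, rfl⟩ := QuotientGroup.mk_surjective b0
  have hNa : N = zpowers (a0 : G) := by
    have h1 : (⊤ : Subgroup N) = zpowers a0 := (eq_top_iff' _ |>.2 ha0).symm
    have h2 : (⊤ : Subgroup N).map N.subtype = N := by
      rw [← MonoidHom.range_eq_map, Subgroup.range_subtype]
    have h3 : (zpowers a0).map N.subtype = zpowers (a0 : G) := MonoidHom.map_zpowers _ _
    rw [← h3, ← h1, h2]
  set a : G := (a0 : G) with ha
  have hord := IsPGroup.iff_orderOf.1 hG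
  obtain ⟨m, hm⟩ := hord a
  -- the exponent
  have hconj : ∃ κ : ℕ, p ∣ κ ∧ b * a * b⁻¹ = a ^ (1 + κ) := by
    by_cases ha1 : a = 1
    · exact ⟨0, dvd_zero _, by simp [ha1]⟩
    have hmem : b * a * b⁻¹ ∈ zpowers a := hNa ▸ hN.conj_mem a (hNa ▸ mem_zpowers a) b
    obtain ⟨ρ, hρ⟩ := exists_pow_of_mem_zpowers hmem
    obtain ⟨E, hE⟩ := hG b
    have h1 := pow_mul_pow_of_conj hρ (p ^ E) 1
    rw [hE, one_mul, mul_one, one_mul, pow_eq_pow_iff_modEq, hm] at h1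
    have hm0 : m ≠ 0 := by
      rintro rfl
      apply ha1
      rw [pow_zero, orderOf_eq_one_iff] at hm
      exact hm
    have h2 : 1 ≡ ρ ^ p ^ E [MOD p] := h1.of_dvd (dvd_pow_self p hm0)
    have h3 : ((ρ : ℕ) : ZMod p) = 1 := by
      have := (ZMod.natCast_eq_natCast_iff _ _ _).2 h2
      rw [Nat.cast_pow, ZMod.pow_card_pow] at this
      simpa using this.symm
    have h4 : ρ ≡ 1 [MOD p] := by
      rw [← ZMod.natCast_eq_natCast_iff]; simpa using h3
    have h5 : ρ ≠ 0 := by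
      rintro rfl
      have : p ∣ 1 := (Nat.modEq_zero_iff_dvd.1 h4.symm)
      exact hp.out.one_lt.ne' (Nat.dvd_one.1 this)
    refine ⟨ρ - 1, ?_, ?_⟩
    · exact (Nat.modEq_iff_dvd' (by omega)).1 h4.symm
    · rw [hρ]; congr 1; omega
  obtain ⟨κ, hκ, hc⟩ := hconj
  obtain ⟨n, hn⟩ := hord (a ^ κ)
  obtain ⟨k, hk⟩ := IsPGroup.iff_orderOf.1 (hG.to_quotient N) (QuotientGroup.mk b)
  refine ⟨a, b, κ, m, k, n, hc, hκ, ?_, hm, hn, ?_⟩
  · intro g
    obtain ⟨i, hi⟩ := exists_pow_of_mem_zpowers (hb0 (QuotientGroup.mk g))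
    have h1 : g * (b ^ i)⁻¹ ∈ N := by
      rw [← QuotientGroup.eq_one_iff, QuotientGroup.mk_mul, hi, QuotientGroup.mk_inv,
        QuotientGroup.mk_pow, mul_inv_cancel]
    rw [hNa] at h1
    obtain ⟨j, hj⟩ := exists_pow_of_mem_zpowers h1
    exact ⟨j, i, by rw [← hj]; group⟩
  · intro i
    rw [← hNa, ← QuotientGroup.eq_one_iff, QuotientGroup.mk_pow, ← hk, orderOf_dvd_iff_pow_eq_one]

end Cfsg.Agent.Lib.Helper64
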