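import Mathlib
import Cfsg.Prelude
import Cfsg.Agent.Lib.Helper64.MetaData

set_option autoImplicit false

/-! `Ω₁` of a metacyclic `p`-group, `p` odd: the elements with `x ^ p = 1` form a subgroup of
order at most `p ^ 2` (helper64). -/

namespace Cfsg.Agent.Lib.Helper64

open Subgroup

variable {G : Type*} [Group G]

/-- power of a product when the commutator is central in `⟨g, h⟩`. -/
theorem mul_pow_of_comm_central {g h c : G} (hc : h * g = c * (g * h)) (hcg : Commute c g)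
    (hch : Commute c h) (n : ℕ) : (g * h) ^ n = c ^ (n.choose 2) * (g ^ n * h ^ n) := by
  have h1 : ∀ n : ℕ, h ^ n * g = c ^ n * (g * h ^ n) := by
    intro n
    induction n with
    | zero => simp
    | succ n ih =>
      calc h ^ (n + 1) * g = h ^ n * (h * g) := by rw [pow_succ, mul_assoc]
        _ = h ^ n * c * (g * h) := by rw [hc, mul_assoc]
        _ = c * (h ^ n * g) * h := by
            rw [((hch.pow_right n).eq).symm]; simp only [mul_assoc]
        _ = c * (c ^ n * (g * h ^ n)) * h := by rw [ih]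
        _ = c ^ (n + 1) * (g * h ^ (n + 1)) := by
            rw [pow_succ' c, pow_succ h]; simp only [mul_assoc]
  induction n with
  | zero => simp
  | succ n ih =>
    have e : (n + 1).choose 2 = n.choose 2 + n := by
      rw [Nat.choose_succ_succ' n 1, Nat.choose_one_right, add_comm]
    calc (g * h) ^ (n + 1) = c ^ (n.choose 2) * (g ^ n * h ^ n) * (g * h) := by rw [pow_succ, ih]
      _ = c ^ (n.choose 2) * (g ^ n * (h ^ n * g) * h) := by simp only [mul_assoc]
      _ = c ^ (n.choose 2) * (g ^ n * (c ^ n * (g * h ^ n)) * h) := by rw [h1]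
      _ = c ^ (n.choose 2) * (c ^ n * g ^ n * (g * h ^ n) * h) := by
          rw [((hcg.pow_pow n n).eq)]; simp only [mul_assoc]
      _ = c ^ ((n + 1).choose 2) * (g ^ (n + 1) * h ^ (n + 1)) := by
          rw [e, pow_add, pow_succ g, pow_succ h]; simp only [mul_assoc]

/-- a subgroup of exponent `p` of a finite cyclic group has order at most `p`. -/
theorem card_le_of_isCyclic_of_pow_eq_one {C : Type*} [Group C] [Finite C] [IsCyclic C]
    (H : Subgroup C) {p : ℕ} (hp : 0 < p) (h : ∀ x ∈ H, x ^ p = 1) : Nat.card H ≤ p := by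
  classical
  have := Fintype.ofFinite C
  have h1 := IsCyclic.card_pow_eq_one_le (α := C) hp
  refine le_trans ?_ h1
  rw [← Set.ncard_coe_finset]
  have h2 : Nat.card H = (H : Set C).ncard := rfl
  rw [h2]
  apply Set.ncard_le_ncard _ (Set.toFinite _)
  intro x hx
  simpa using h x hx

namespace MetaData

variable {p : ℕ} {a b : G} {κ m k n : ℕ}

theorem pow_kappa [hpp : Fact p.Prime] (D : MetaData p a b κ m k n) (hp2 : p ≠ 2) {i : ℕ}
    (hi : p ^ k ∣ i * p) : (a ^ (κ * geo (1 + κ) i)) ^ p = 1 := by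
  have h1 : b ^ (i * p) ∈ zpowers a := (D.hb _).2 hi
  have h2 : b ^ (i * p) * a = a * b ^ (i * p) := by
    obtain ⟨t, ht⟩ := h1
    rw [← ht]
    exact ((Commute.refl a).zpow_left t).eq
  have h3 := D.pow_mul_pow (i * p) 1
  rw [pow_one, one_mul, h2, mul_left_inj] at h3
  have h4 : a ^ 1 = a ^ ((1 + κ) ^ (i * p)) := by rw [pow_one]; exact h3
  rw [pow_eq_pow_iff_modEq, D.ha] at h4
  set κi := κ * geo (1 + κ) i with hκi
  have h5 : (1 + κ) ^ (i * p) = 1 + κi * geo (1 + κi) p := by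
    rw [pow_mul, pow_eq_one_add_mul_geo κ i, ← hκi, pow_eq_one_add_mul_geo]
  rw [h5] at h4
  have h6 : p ^ m ∣ geo (1 + κi) p * κi := by
    have := (Nat.modEq_iff_dvd' (by omega : 1 ≤ 1 + κi * geo (1 + κi) p)).1 h4
    rw [mul_comm]
    simpa using this
  have h7 : ¬ p ^ (1 + 1) ∣ geo (1 + κi) p := by
    have hmod : 1 + κi ≡ 1 [MOD p] := by
      have : p ∣ κi := Dvd.dvd.mul_right D.dvd _
      simpa using (Nat.modEq_zero_iff_dvd.2 this).add_left 1
    rw [pow_dvd_geo_iff hp2 hmod]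
    intro h
    have h8 := Nat.le_of_dvd hpp.out.pos h
    have h9 : p * 2 ≤ p * p := Nat.mul_le_mul_left _ hpp.out.two_le
    have h10 := hpp.out.pos
    have h11 : p ^ (1 + 1) = p * p := by ring
    omega
  rw [← pow_mul, ← orderOf_dvd_iff_pow_eq_one, D.ha]
  rcases Nat.eq_zero_or_pos m with rfl | hm
  · simp
  have h8 : p ^ (m - 1) ∣ κi := pow_dvd_of_pow_dvd_mul h6 h7 (by omega)
  obtain ⟨t, ht⟩ := h8
  refine ⟨t, ?_⟩
  rw [ht]
  have : p ^ m = p ^ (m - 1) * p := by rw [← pow_succ]; congr 1; omega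
  rw [this]; ring

theorem conj_eq_self_of_pow_eq_one [Finite G] (D : MetaData p a b κ m k n) {x : G}
    (hx : x ∈ zpowers a) (hxp : x ^ p = 1) (g : G) : g * x * g⁻¹ = x := by
  obtain ⟨l, rfl⟩ := exists_pow_of_mem_zpowers hx
  obtain ⟨j, i, rfl⟩ := D.gen g
  rw [D.conj_pow_a, pow_eq_one_add_mul_geo, pow_add, pow_one, pow_mul]
  obtain ⟨t, ht⟩ := D.dvd
  rw [ht, pow_mul, hxp]; simp

theorem dvd_of_pow_eq_one (D : MetaData p a b κ m k n) {j i : ℕ}
    (h : (a ^ j * b ^ i) ^ p = 1) : p ^ k ∣ i * p := by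
  have h0 : b ^ i * a ^ j * (b ^ i)⁻¹ = (a ^ j) ^ ((1 + κ) ^ i) := by
    have := D.conj_pow_a 0 i j
    simpa using this
  rw [mul_pow_of_conj h0, ← pow_mul b] at h
  rw [← D.hb]
  have : b ^ (i * p) = ((a ^ j) ^ geo ((1 + κ) ^ i) p)⁻¹ := (inv_eq_of_mul_eq_one_right h).symm
  rw [this]
  exact inv_mem (pow_mem (pow_mem (mem_zpowers a) _) _)

theorem mul_pow_eq_one [hpp : Fact p.Prime] [Finite G] (D : MetaData p a b κ m k n) (hp2 : p ≠ 2)
    {g h : G} (hg : g ^ p = 1) (hh : h ^ p = 1) : (g * h) ^ p = 1 := by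
  obtain ⟨j, i, rfl⟩ := D.gen g
  obtain ⟨l, r, rfl⟩ := D.gen h
  have hi := D.dvd_of_pow_eq_one hg
  have hr := D.dvd_of_pow_eq_one hh
  set c := (a ^ l * b ^ r) * (a ^ j * b ^ i) * (a ^ l * b ^ r)⁻¹ * (a ^ j * b ^ i)⁻¹ with hc
  have hc' := D.commutator_formula l r j i
  rw [← hc] at hc'
  have hX : ∀ (t s : ℕ), p ^ k ∣ s * p → ((a ^ κ) ^ (t * geo (1 + κ) s)) ^ p = 1 := by
    intro t s hs
    have := D.pow_kappa hp2 hs
    rw [← pow_mul, ← pow_mul,
      show κ * (t * geo (1 + κ) s * p) = (κ * geo (1 + κ) s) * p * t by ring, pow_mul, pow_mul,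
      this, one_pow]
  have hca : c ∈ zpowers a := by
    rw [hc']
    exact mul_mem (pow_mem (pow_mem (mem_zpowers a) _) _)
      (inv_mem (pow_mem (pow_mem (mem_zpowers a) _) _))
  have hcp : c ^ p = 1 := by
    rw [hc']
    have hcomm : Commute ((a ^ κ) ^ (j * geo (1 + κ) r)) ((a ^ κ) ^ (l * geo (1 + κ) i))⁻¹ :=
      ((Commute.refl (a ^ κ)).pow_pow _ _).inv_right
    rw [hcomm.mul_pow, inv_pow, hX _ _ hr, hX _ _ hi]; simp
  have hcen : ∀ g : G, Commute c g := by
    intro g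
    have := D.conj_eq_self_of_pow_eq_one hca hcp g
    have h2 : g * c = c * g := by
      calc g * c = g * c * g⁻¹ * g := by group
        _ = c * g := by rw [this]
    exact h2.symm
  have hrel : (a ^ l * b ^ r) * (a ^ j * b ^ i) = c * ((a ^ j * b ^ i) * (a ^ l * b ^ r)) := by
    rw [hc]; group
  rw [mul_pow_of_comm_central hrel (hcen _) (hcen _), hg, hh]
  obtain ⟨t, ht⟩ := hpp.out.dvd_choose_self (k := 2) (by norm_num)
    (lt_of_le_of_ne hpp.out.two_le (Ne.symm hp2))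
  rw [ht, pow_mul, hcp]; simp

end MetaData

/-- For odd `p`, the elements with `x ^ p = 1` of a metacyclic `p`-group form a subgroup of order
at most `p ^ 2`; its intersection `Z` with a suitable cyclic normal subgroup is central, of order at
most `p`, and contains all commutators `[e, g]`, `e ∈ E`. -/
theorem exists_omega_of_isMetacyclic [Finite G] {p : ℕ} [hp : Fact p.Prime] (hp2 : p ≠ 2)
    (hG : IsPGroup p G) (hmc : Cfsg.IsMetacyclic G) :
    ∃ E Z : Subgroup G, (∀ x, x ∈ E ↔ x ^ p = 1) ∧ Nat.card E ≤ p ^ 2 ∧ Z ≤ E ∧ Nat.card Z ≤ p ∧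
      (∀ z ∈ Z, ∀ g : G, g * z * g⁻¹ = z) ∧ (∀ e ∈ E, ∀ g : G, e * g * e⁻¹ * g⁻¹ ∈ Z) := by
  obtain ⟨a, b, κ, m, k, n, D⟩ := exists_metaData hG hmc
  have := D.normal
  let E : Subgroup G := subgroupOfMulClosed {x | x ^ p = 1} (by simp)
    (fun x hx y hy => D.mul_pow_eq_one hp2 hx hy)
  have hE : ∀ x, x ∈ E ↔ x ^ p = 1 := fun x => Iff.rfl
  have hZ : Nat.card (E ⊓ zpowers a : Subgroup G) ≤ p := by
    have h1 : Nat.card ((E ⊓ zpowers a).subgroupOf (zpowers a)) ≤ p := by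
      apply card_le_of_isCyclic_of_pow_eq_one _ hp.out.pos
      intro x hx
      have : (x : G) ^ p = 1 := (hE _).1 (mem_subgroupOf.1 hx).1
      exact Subtype.ext (by simpa using this)
    rwa [Nat.card_congr (subgroupOfEquivOfLe (inf_le_right : E ⊓ zpowers a ≤ zpowers a)).toEquiv]
      at h1
  refine ⟨E, E ⊓ zpowers a, hE, ?_, inf_le_left, hZ, ?_, ?_⟩
  · rw [card_eq_card_inf_mul_card_map E (zpowers a), pow_two, inf_comm]
    apply Nat.mul_le_mul hZ
    have : IsCyclic (G ⧸ zpowers a) :=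
      ⟨⟨(b : G ⧸ zpowers a), fun x => D.mem_zpowers_mk x⟩⟩
    apply card_le_of_isCyclic_of_pow_eq_one _ hp.out.pos
    rintro _ ⟨x, hx, rfl⟩
    rw [← map_pow, (hE x).1 hx, map_one]
  · intro z hz g
    exact D.conj_eq_self_of_pow_eq_one hz.2 ((hE z).1 hz.1) g
  · intro e he g
    refine ⟨?_, D.commutator_mem' e g⟩
    have h1 : (g * e⁻¹ * g⁻¹) ^ p = 1 := by
      rw [conj_pow, inv_pow, (hE e).1 he]; simp
    have := D.mul_pow_eq_one hp2 ((hE e).1 he) h1
    apply (hE _).2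
    rw [← this]; congr 1; group

end Cfsg.Agent.Lib.Helper64
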