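import Mathlib
import Cfsg.Agent.Lib.Helper64.MetaData

set_option autoImplicit false

namespace Cfsg.Agent.Lib.Helper64

open Subgroup

variable {G : Type*} [Group G]

namespace MetaData

variable {p : ℕ} {a b : G} {κ m k n : ℕ}

/-- `W s = {a^j b^i | p^s ∣ j, p^s ∣ i}`. -/
def W [Finite G] (D : MetaData p a b κ m k n) (s : ℕ) : Subgroup G :=
  subgroupOfMulClosed {g | ∃ j i : ℕ, g = a ^ (p ^ s * j) * b ^ (p ^ s * i)} ⟨0, 0, by simp⟩ (by
    rintro _ ⟨j, i, rfl⟩ _ ⟨l, r, rfl⟩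
    refine ⟨j + l * (1 + κ) ^ (p ^ s * i), i + r, ?_⟩
    calc a ^ (p ^ s * j) * b ^ (p ^ s * i) * (a ^ (p ^ s * l) * b ^ (p ^ s * r))
        = a ^ (p ^ s * j) * (b ^ (p ^ s * i) * a ^ (p ^ s * l)) * b ^ (p ^ s * r) := by
          simp only [mul_assoc]
      _ = _ := by
          rw [D.pow_mul_pow, mul_add, mul_add, pow_add, pow_add]
          simp only [mul_assoc])

theorem mem_W [Finite G] (D : MetaData p a b κ m k n) (s : ℕ) (g : G) :
    g ∈ D.W s ↔ ∃ j i : ℕ, g = a ^ (p ^ s * j) * b ^ (p ^ s * i) := Iff.rfl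

theorem index_le_of_mem_W [Finite G] [hp : Fact p.Prime] (hp2 : p ≠ 2) (D : MetaData p a b κ m k n)
    {s : ℕ} (hs : s ≤ n) {g : G} (hg : g ∈ D.W s) :
    (centralizer ({g} : Set G)).index ≤ p ^ (n - s) := by
  obtain ⟨j, i, rfl⟩ := hg
  have h1 := relIndex_centralizer_le ⊤ (a ^ (p ^ s * j) * b ^ (p ^ s * i))
    (zpowers ((a ^ κ) ^ p ^ s) : Set G) (Set.toFinite _) (by
      intro c _
      obtain ⟨l, r, rfl⟩ := D.gen c
      rw [D.commutator_formula]
      obtain ⟨q, hq⟩ := (pow_dvd_geo_iff hp2 D.modEq (p ^ s * i) s).2 (dvd_mul_right _ _)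
      apply Subgroup.mul_mem
      · rw [mul_assoc, pow_mul]
        exact Subgroup.pow_mem _ (mem_zpowers _) _
      · apply Subgroup.inv_mem
        rw [hq, mul_left_comm, pow_mul]
        exact Subgroup.pow_mem _ (mem_zpowers _) _)
  rw [relIndex_top_right] at h1
  refine h1.trans (le_of_eq ?_)
  rw [← Nat.card_coe_set_eq]
  exact (Nat.card_zpowers _).trans (orderOf_pow_prime_pow D.hd hs)

theorem dvd_of_index_le [Finite G] [hp : Fact p.Prime] (hp2 : p ≠ 2) (D : MetaData p a b κ m k n)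
    {s : ℕ} (hs : s ≤ n) {j i : ℕ}
    (h : (centralizer ({a ^ j * b ^ i} : Set G)).index ≤ p ^ (n - s)) : p ^ s ∣ j ∧ p ^ s ∣ i := by
  have h0 : (centralizer ({a ^ j * b ^ i} : Set G)).index ≠ 0 := index_ne_zero_of_finite
  have hnd : ∀ M : ℕ, 0 < M → M ≤ (centralizer ({a ^ j * b ^ i} : Set G)).index →
      ¬ p ^ (n - s + 1) ∣ M := by
    intro M hM hM2 hd
    have h1 := Nat.le_of_dvd hM hd
    have h2 : p ^ (n - s) < p ^ (n - s + 1) := Nat.pow_lt_pow_right hp.out.one_lt (by omega)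
    omega
  constructor
  · obtain ⟨M, hM, hM2, hM3⟩ := exists_pow_mem_of_index_ne_zero h0 b
    rw [mem_centralizer_singleton_iff] at hM3
    have h1 := D.commute_iff j i 0 M
    simp only [pow_zero, one_mul, zero_mul] at h1
    have h2 := (h1.1 hM3.symm).symm
    rw [Nat.modEq_zero_iff_dvd, mul_comm] at h2
    refine pow_dvd_of_pow_dvd_mul h2 (c := n - s) ?_ (by omega)
    rw [pow_dvd_geo_iff hp2 D.modEq]
    exact hnd M hM hM2
  · obtain ⟨M, hM, hM2, hM3⟩ := exists_pow_mem_of_index_ne_zero h0 a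
    rw [mem_centralizer_singleton_iff] at hM3
    have h1 := D.commute_iff j i M 0
    simp only [pow_zero, mul_one, geo_zero, mul_zero] at h1
    have h2 := h1.1 hM3.symm
    rw [Nat.modEq_zero_iff_dvd] at h2
    have h3 := pow_dvd_of_pow_dvd_mul h2 (c := n - s) (s := s) (hnd M hM hM2) (by omega)
    rwa [pow_dvd_geo_iff hp2 D.modEq] at h3

theorem mem_W_iff_index_le [Finite G] [hp : Fact p.Prime] (hp2 : p ≠ 2) (D : MetaData p a b κ m k n)
    {s : ℕ} (hs : s ≤ n) (g : G) :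
    g ∈ D.W s ↔ (centralizer ({g} : Set G)).index ≤ p ^ (n - s) := by
  refine ⟨D.index_le_of_mem_W hp2 hs, fun h => ?_⟩
  obtain ⟨j, i, rfl⟩ := D.gen g
  obtain ⟨⟨j', rfl⟩, ⟨i', rfl⟩⟩ := D.dvd_of_index_le hp2 hs h
  exact ⟨j', i', rfl⟩

theorem mem_W_iff_dvd [Finite G] [hp : Fact p.Prime] (hp2 : p ≠ 2) (D : MetaData p a b κ m k n)
    {s : ℕ} (hs : s ≤ n) (j i : ℕ) :
    a ^ j * b ^ i ∈ D.W s ↔ p ^ s ∣ j ∧ p ^ s ∣ i := by
  constructor
  · intro h
    exact D.dvd_of_index_le hp2 hs (D.index_le_of_mem_W hp2 hs h)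
  · rintro ⟨⟨j', rfl⟩, ⟨i', rfl⟩⟩
    exact ⟨j', i', rfl⟩

theorem card_W [Finite G] [hp : Fact p.Prime] (hp2 : p ≠ 2) (D : MetaData p a b κ m k n)
    {s : ℕ} (hs : s ≤ n) : Nat.card (D.W s) = p ^ (m - s) * p ^ (k - s) := by
  have := D.normal
  have hm := D.n_le_m
  have hk := D.n_le_k hp2
  rw [card_eq_card_inf_mul_card_map (D.W s) (zpowers a)]
  have h1 : zpowers a ⊓ D.W s = zpowers (a ^ p ^ s) := by
    apply le_antisymm
    · rintro x ⟨hx1, hx2⟩
      obtain ⟨j, rfl⟩ := exists_pow_of_mem_zpowers hx1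
      have h := (D.mem_W_iff_dvd hp2 hs j 0).1 (by simpa using hx2)
      obtain ⟨j', rfl⟩ := h.1
      rw [pow_mul]
      exact Subgroup.pow_mem _ (mem_zpowers _) _
    · rw [zpowers_le]
      exact ⟨Subgroup.pow_mem _ (mem_zpowers _) _, ⟨1, 0, by simp⟩⟩
  have h2 : (D.W s).map (QuotientGroup.mk' (zpowers a)) =
      zpowers ((QuotientGroup.mk b : G ⧸ zpowers a) ^ p ^ s) := by
    apply le_antisymm
    · rintro _ ⟨x, ⟨j, i, rfl⟩, rfl⟩
      rw [QuotientGroup.mk'_apply, D.mk_eq, pow_mul]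
      exact Subgroup.pow_mem _ (mem_zpowers _) _
    · rw [zpowers_le]
      exact ⟨b ^ p ^ s, ⟨0, 1, by simp⟩, by simp⟩
  rw [h1, h2, Nat.card_zpowers, Nat.card_zpowers, orderOf_pow_prime_pow D.ha (by omega),
    orderOf_pow_prime_pow D.orderOf_mk (by omega)]

theorem W_n_eq_center [Finite G] [hp : Fact p.Prime] (hp2 : p ≠ 2) (D : MetaData p a b κ m k n) :
    D.W n = center G := by
  ext g
  rw [D.mem_W_iff_index_le hp2 le_rfl, Nat.sub_self, pow_zero]
  have h0 : (centralizer ({g} : Set G)).index ≠ 0 := index_ne_zero_of_finite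
  have : (centralizer ({g} : Set G)).index ≤ 1 ↔ (centralizer ({g} : Set G)).index = 1 := by omega
  rw [this, index_eq_one, centralizer_eq_top_iff_subset, Set.singleton_subset_iff]
  rfl

theorem card_center [Finite G] [hp : Fact p.Prime] (hp2 : p ≠ 2) (D : MetaData p a b κ m k n) :
    Nat.card (center G) = p ^ (m - n) * p ^ (k - n) := by
  rw [← D.W_n_eq_center hp2, D.card_W hp2 le_rfl]

theorem W_eq_closure [Finite G] [hp : Fact p.Prime] (hp2 : p ≠ 2) (D : MetaData p a b κ m k n)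
    (s : ℕ) : D.W s = closure {x : G | ∃ y : G, y ^ p ^ s = x} := by
  apply le_antisymm
  · rintro _ ⟨j, i, rfl⟩
    apply Subgroup.mul_mem
    · exact subset_closure ⟨a ^ j, by rw [← pow_mul, mul_comm]⟩
    · exact subset_closure ⟨b ^ i, by rw [← pow_mul, mul_comm]⟩
  · rw [closure_le]
    rintro _ ⟨y, rfl⟩
    obtain ⟨j, i, rfl⟩ := D.gen y
    have h1 : b ^ i * a ^ j * (b ^ i)⁻¹ = (a ^ j) ^ ((1 + κ) ^ i) := by
      have := D.conj_pow_a 0 i j
      simpa using this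
    rw [mul_pow_of_conj h1]
    obtain ⟨q, hq⟩ := (pow_dvd_geo_iff hp2 (D.modEq_pow i) (p ^ s) s).2 dvd_rfl
    refine ⟨j * q, i, ?_⟩
    rw [hq, ← pow_mul, ← pow_mul]
    congr 2 <;> ring

end MetaData

end Cfsg.Agent.Lib.Helper64
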