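import Mathlib
import Cfsg.Agent.Lib.Helper64.MetaW

set_option autoImplicit false

namespace Cfsg.Agent.Lib.Helper64

open Subgroup

variable {G : Type*} [Group G]

namespace MetaData

variable {p : ℕ} {a b : G} {κ m k n : ℕ}

/-- structure of an arbitrary subgroup. -/
theorem exists_subgroup_data [Finite G] [hp : Fact p.Prime] (D : MetaData p a b κ m k n)
    (L : Subgroup G) : ∃ s t z : ℕ, s ≤ m ∧ t ≤ k ∧ a ^ p ^ s ∈ L ∧ a ^ z * b ^ p ^ t ∈ L ∧
      (∀ x ∈ L, ∃ e f : ℕ, x = (a ^ p ^ s) ^ e * (a ^ z * b ^ p ^ t) ^ f) ∧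
      Nat.card L = p ^ (m - s) * p ^ (k - t) := by
  have := D.normal
  obtain ⟨s, hs, hs'⟩ := exists_eq_zpowers_pow_of_le_zpowers D.ha (zpowers a ⊓ L) inf_le_left
  obtain ⟨t, ht, ht'⟩ := exists_eq_zpowers_pow_of_le_zpowers D.orderOf_mk
    (L.map (QuotientGroup.mk' (zpowers a))) (fun x _ => D.mem_zpowers_mk x)
  have h1 : (QuotientGroup.mk b : G ⧸ zpowers a) ^ p ^ t ∈ L.map (QuotientGroup.mk' (zpowers a)) :=
    ht' ▸ mem_zpowers _
  obtain ⟨c, hcL, hc⟩ := h1
  rw [QuotientGroup.mk'_apply] at hc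
  have h2 : c * (b ^ p ^ t)⁻¹ ∈ zpowers a := by
    rw [← QuotientGroup.eq_one_iff, QuotientGroup.mk_mul, hc, QuotientGroup.mk_inv,
      QuotientGroup.mk_pow, mul_inv_cancel]
  obtain ⟨z, hz⟩ := exists_pow_of_mem_zpowers h2
  have hcz : c = a ^ z * b ^ p ^ t := by rw [← hz]; group
  subst hcz
  refine ⟨s, t, z, hs, ht, ?_, hcL, ?_, ?_⟩
  · have : a ^ p ^ s ∈ zpowers a ⊓ L := hs' ▸ mem_zpowers _
    exact this.2
  · intro x hx
    have h3 : (QuotientGroup.mk x : G ⧸ zpowers a) ∈ L.map (QuotientGroup.mk' (zpowers a)) :=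
      ⟨x, hx, rfl⟩
    rw [ht', ← hc] at h3
    obtain ⟨f, hf⟩ := exists_pow_of_mem_zpowers h3
    have h4 : x * ((a ^ z * b ^ p ^ t) ^ f)⁻¹ ∈ zpowers a ⊓ L := by
      rw [mem_inf]
      refine ⟨?_, L.mul_mem hx (L.inv_mem (L.pow_mem hcL f))⟩
      rw [← QuotientGroup.eq_one_iff, QuotientGroup.mk_mul, hf, QuotientGroup.mk_inv,
        QuotientGroup.mk_pow, mul_inv_cancel]
    rw [hs'] at h4
    obtain ⟨e, he⟩ := exists_pow_of_mem_zpowers h4
    exact ⟨e, f, by rw [← he]; group⟩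
  · rw [card_eq_card_inf_mul_card_map L (zpowers a), hs', ht', Nat.card_zpowers, Nat.card_zpowers,
      orderOf_pow_prime_pow D.ha hs, orderOf_pow_prime_pow D.orderOf_mk ht]

theorem index_commutator [Finite G] [hp : Fact p.Prime] (D : MetaData p a b κ m k n) :
    (commutator G).index = p ^ (m + k - n) := by
  have h1 := (commutator G).card_mul_index
  rw [D.card_commutator, D.card_eq] at h1
  have hm := D.n_le_m
  have h2 : p ^ m * p ^ k = p ^ n * p ^ (m + k - n) := by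
    rw [← pow_add, ← pow_add]; congr 1; omega
  rw [h2] at h1
  exact Nat.eq_of_mul_eq_mul_left (pow_pos hp.out.pos n) h1

theorem isMulCommutative_iff_card_le [Finite G] [hp : Fact p.Prime] (hp2 : p ≠ 2)
    (D : MetaData p a b κ m k n) (L : Subgroup G) :
    IsMulCommutative ↥L ↔ Nat.card ↥L ≤ (commutator G).index := by
  obtain ⟨s, t, z, hs, ht, hu, hc, hgen, hcard⟩ := D.exists_subgroup_data L
  have hm := D.n_le_m
  have hcc := D.commute_iff (p ^ s) 0 z (p ^ t)
  simp only [pow_zero, mul_one, geo_zero, mul_zero] at hcc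
  have harith : 0 ≡ p ^ s * geo (1 + κ) (p ^ t) [MOD p ^ n] ↔ n ≤ s + t := by
    rw [Nat.ModEq.comm, Nat.modEq_zero_iff_dvd]
    constructor
    · intro h
      by_contra hlt
      have h1 : p ^ (s + (t + 1)) ∣ p ^ s * geo (1 + κ) (p ^ t) :=
        (pow_dvd_pow p (by omega)).trans h
      rw [pow_add] at h1
      have h2 := Nat.dvd_of_mul_dvd_mul_left (pow_pos hp.out.pos s) h1
      rw [pow_dvd_geo_iff hp2 D.modEq, Nat.pow_dvd_pow_iff_le_right hp.out.one_lt] at h2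
      omega
    · intro h
      obtain ⟨q, hq⟩ := (pow_dvd_geo_iff hp2 D.modEq (p ^ t) t).2 dvd_rfl
      rw [hq, ← mul_assoc, ← pow_add]
      exact Dvd.dvd.mul_right (pow_dvd_pow p h) q
  have hle : Nat.card ↥L ≤ (commutator G).index ↔ n ≤ s + t := by
    rw [hcard, D.index_commutator, ← pow_add, Nat.pow_le_pow_iff_right hp.out.one_lt]
    omega
  rw [hle, ← harith, ← hcc]
  constructor
  · intro h
    exact congrArg Subtype.val (h.is_comm.comm (⟨_, hu⟩ : L) ⟨_, hc⟩)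
  · intro h
    have hcm : Commute (a ^ p ^ s) (a ^ z * b ^ p ^ t) := h
    refine ⟨⟨fun x y => Subtype.ext ?_⟩⟩
    obtain ⟨e, f, hx⟩ := hgen x x.2
    obtain ⟨e', f', hy⟩ := hgen y y.2
    change (x : G) * y = y * x
    rw [hx, hy]
    have : Commute ((a ^ p ^ s) ^ e * (a ^ z * b ^ p ^ t) ^ f)
        ((a ^ p ^ s) ^ e' * (a ^ z * b ^ p ^ t) ^ f') := by
      apply Commute.mul_left <;> apply Commute.mul_right
      · exact (Commute.refl _).pow_pow _ _
      · exact hcm.pow_pow _ _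
      · exact hcm.symm.pow_pow _ _
      · exact (Commute.refl _).pow_pow _ _
    exact this

end MetaData

end Cfsg.Agent.Lib.Helper64
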