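import Mathlib
import Cfsg.Agent.Lib.Helper64.MetaOmega
import Cfsg.Agent.Lib.Helper84.FusionSat

set_option autoImplicit false

/-! In a metacyclic `2`-group an element normalizing an abelian subgroup `D` in which all involutions
are squares, with square in `D`, acts trivially on `D` modulo squares (helper64). -/

namespace Cfsg.Agent.Lib.Helper64

open Subgroup

theorem isMetacyclic_of_injective {G H : Type*} [Group G] [Group H] (f : H →* G)
    (hf : Function.Injective f) (hmc : Cfsg.IsMetacyclic G) : Cfsg.IsMetacyclic H := by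
  obtain ⟨N, hN, hNc, hQc⟩ := hmc
  let φ : H →* G ⧸ N := (QuotientGroup.mk' N).comp f
  refine ⟨φ.ker, inferInstance, ?_, ?_⟩
  · let g : ↥φ.ker →* ↥N := MonoidHom.codRestrict (f.comp φ.ker.subtype) N (by
      intro x
      have : φ x.1 = 1 := x.2
      exact (QuotientGroup.eq_one_iff _).1 this)
    apply isCyclic_of_injective g
    intro x y hxy
    have : f (x : H) = f (y : H) := congrArg (fun z : ↥N => (z : G)) hxy
    exact Subtype.ext (hf this)
  · exact isCyclic_of_injective (QuotientGroup.kerLift φ) (QuotientGroup.kerLift_injective φ)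

theorem comm_mem_sq {Y : Type*} [Group Y] [Finite Y] (hY : IsPGroup 2 Y)
    (hm : Cfsg.IsMetacyclic Y) (D : Subgroup Y) (hidx : D.index = 2)
    (hab : ∀ u ∈ D, ∀ v ∈ D, u * v = v * u)
    (hΩ : ∀ w ∈ D, w ^ 2 = 1 → ∃ e ∈ D, w = e ^ 2) (x d : Y) (hd : d ∈ D) :
    ∃ e ∈ D, x * d * x⁻¹ * d⁻¹ = e ^ 2 := by
  have : Fact (Nat.Prime 2) := ⟨Nat.prime_two⟩
  have hDn : D.Normal := Subgroup.normal_of_index_eq_two hidx
  obtain ⟨a, b, κ, m, k, n, M⟩ := exists_metaData hY hm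
  have hna : (zpowers a).Normal := M.normal
  by_cases ha : a ∈ D
  · obtain ⟨j, i, rfl⟩ := M.gen d
    obtain ⟨l, r, rfl⟩ := M.gen x
    have haj : a ^ j ∈ D := D.pow_mem ha j
    have hbi : b ^ i ∈ D := (D.mul_mem_cancel_left haj).1 hd
    have h1 := M.conj_pow_a l r j
    have h2 : (a ^ l * b ^ r) * b ^ i * (a ^ l * b ^ r)⁻¹ = b ^ i := by
      have e1 : (a ^ l * b ^ r) * b ^ i * (a ^ l * b ^ r)⁻¹ = a ^ l * b ^ i * (a ^ l)⁻¹ := by
        have : b ^ r * b ^ i = b ^ i * b ^ r := by rw [← pow_add, ← pow_add, add_comm]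
        calc (a ^ l * b ^ r) * b ^ i * (a ^ l * b ^ r)⁻¹
            = a ^ l * (b ^ r * b ^ i) * (b ^ r)⁻¹ * (a ^ l)⁻¹ := by group
          _ = a ^ l * b ^ i * (a ^ l)⁻¹ := by rw [this]; group
      rw [e1, hab _ (D.pow_mem ha l) _ hbi, mul_inv_cancel_right]
    obtain ⟨q, hq⟩ := M.dvd
    refine ⟨(a ^ j) ^ (q * geo (1 + κ) r), D.pow_mem haj _, ?_⟩
    calc (a ^ l * b ^ r) * (a ^ j * b ^ i) * (a ^ l * b ^ r)⁻¹ * (a ^ j * b ^ i)⁻¹
        = ((a ^ l * b ^ r) * a ^ j * (a ^ l * b ^ r)⁻¹) *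
          ((a ^ l * b ^ r) * b ^ i * (a ^ l * b ^ r)⁻¹) * (b ^ i)⁻¹ * (a ^ j)⁻¹ := by group
      _ = (a ^ j) ^ ((1 + κ) ^ r) * (a ^ j)⁻¹ := by rw [h1, h2]; group
      _ = (a ^ j) ^ (κ * geo (1 + κ) r) := by
          rw [pow_eq_one_add_mul_geo, add_comm, pow_add, pow_one, mul_inv_cancel_right]
      _ = ((a ^ j) ^ (q * geo (1 + κ) r)) ^ 2 := by
          rw [← pow_mul (a ^ j)]
          have : κ * geo (1 + κ) r = q * geo (1 + κ) r * 2 := by
            nth_rewrite 1 [hq]; ring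
          rw [this]
  · by_cases hx : x ∈ D
    · refine ⟨1, D.one_mem, ?_⟩
      rw [hab x hx d hd]; group
    · have hd0 : a⁻¹ * x ∈ D := by
        rw [Subgroup.mul_mem_iff_of_index_two hidx, inv_mem_iff]
        exact ⟨fun h => absurd h ha, fun h => absurd h hx⟩
      have h1 : x * d * x⁻¹ = a * d * a⁻¹ := by
        have e1 : x * d * x⁻¹ = a * ((a⁻¹ * x) * d * (a⁻¹ * x)⁻¹) * a⁻¹ := by group
        rw [e1, hab _ hd0 d hd, mul_inv_cancel_right]
      rw [h1]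
      apply hΩ
      · exact D.mul_mem (hDn.conj_mem d hd a) (D.inv_mem hd)
      · obtain ⟨w, hw⟩ : ∃ w, w = a * d * a⁻¹ * d⁻¹ := ⟨_, rfl⟩
        rw [← hw]
        have hwa : w ∈ zpowers a := by
          rw [hw, mul_assoc, mul_assoc]
          refine (zpowers a).mul_mem (mem_zpowers a) ?_
          rw [← mul_assoc]
          exact hna.conj_mem _ ((zpowers a).inv_mem (mem_zpowers a)) d
        have hcw : a * w = w * a := by
          obtain ⟨i, hi⟩ := mem_zpowers_iff.1 hwa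
          rw [← hi]
          exact ((Commute.refl a).zpow_right i).eq
        have ha2 : a ^ 2 ∈ D := Subgroup.sq_mem_of_index_two hidx a
        have h3 : a ^ 2 * d = d * a ^ 2 := hab _ ha2 d hd
        have h4 : a * d = w * d * a := by rw [hw]; group
        have h5 : a ^ 2 * d = w ^ 2 * (d * a ^ 2) := by
          calc a ^ 2 * d = a * (a * d) := by rw [sq, mul_assoc]
            _ = a * (w * d * a) := by rw [h4]
            _ = (a * w) * d * a := by group
            _ = w * (a * d) * a := by rw [hcw]; group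
            _ = w * (w * d * a) * a := by rw [h4]
            _ = w ^ 2 * (d * a ^ 2) := by rw [sq, sq]; group
        rw [h3] at h5
        exact (mul_eq_right.1 h5.symm)

theorem comm_mem_sq' {Ω : Type*} [Group Ω] {P D : Subgroup Ω} [Finite P] (hP : IsPGroup 2 P)
    (hm : Cfsg.IsMetacyclic P) (hDP : D ≤ P) {x : Ω} (hxP : x ∈ P) (hxD : x ∉ D)
    (hx2 : x ^ 2 ∈ D) (hxN : x ∈ normalizer (D : Set Ω))
    (hab : ∀ u ∈ D, ∀ v ∈ D, u * v = v * u)
    (hΩ : ∀ w ∈ D, w ^ 2 = 1 → ∃ e ∈ D, w = e ^ 2) (d : Ω) (hd : d ∈ D) :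
    ∃ e ∈ D, x * d * x⁻¹ * d⁻¹ = e ^ 2 := by
  have hYP : D ⊔ zpowers x ≤ P := sup_le hDP (zpowers_le.2 hxP)
  have hfin : Finite ↥(D ⊔ zpowers x) := Finite.of_injective _ (Subgroup.inclusion_injective hYP)
  have hDY : D ≤ D ⊔ zpowers x := le_sup_left
  have hxY : x ∈ D ⊔ zpowers x := le_sup_right (a := D) (mem_zpowers x)
  have hev : ∀ q : ℤ, x ^ (2 * q) ∈ D := by
    intro q
    rw [zpow_mul]
    exact D.zpow_mem (by simpa using hx2) q
  have hodd : ∀ q : ℤ, x ^ (2 * q + 1) ∉ D := by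
    intro q h
    rw [zpow_add, zpow_one] at h
    exact hxD ((D.mul_mem_cancel_left (hev q)).1 h)
  have hidx : (D.subgroupOf (D ⊔ zpowers x)).index = 2 := by
    rw [Subgroup.index_eq_two_iff]
    refine ⟨⟨x, hxY⟩, ?_⟩
    rintro ⟨y, hy⟩
    simp only [mem_subgroupOf, Subgroup.coe_mul]
    rw [← SetLike.mem_coe, Subgroup.coe_mul_of_right_le_normalizer_left D (zpowers x)
      (zpowers_le.2 hxN), Set.mem_mul] at hy
    obtain ⟨d', hd', z, hz, rfl⟩ := hy
    obtain ⟨i, rfl⟩ := mem_zpowers_iff.1 hz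
    rcases Int.even_or_odd' i with ⟨q, rfl | rfl⟩
    · right
      refine ⟨D.mul_mem hd' (hev q), ?_⟩
      rw [mul_assoc, D.mul_mem_cancel_left hd', ← zpow_add_one]
      exact hodd q
    · left
      refine ⟨?_, ?_⟩
      · rw [mul_assoc, D.mul_mem_cancel_left hd', ← zpow_add_one]
        have : 2 * q + 1 + 1 = 2 * (q + 1) := by ring
        rw [this]
        exact hev (q + 1)
      · rw [D.mul_mem_cancel_left hd']
        exact hodd q
  obtain ⟨e, he, h⟩ := comm_mem_sq (hP.to_le hYP)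
    (isMetacyclic_of_injective _ (Subgroup.inclusion_injective hYP) hm)
    (D.subgroupOf (D ⊔ zpowers x)) hidx
    (by
      rintro ⟨u, hu⟩ hu' ⟨v, hv⟩ hv'
      exact Subtype.ext (hab u hu' v hv'))
    (by
      rintro ⟨w, hw⟩ hw' hw2
      obtain ⟨e, he, h⟩ := hΩ w hw' (congrArg Subtype.val hw2)
      exact ⟨⟨e, hDY he⟩, he, Subtype.ext h⟩)
    ⟨x, hxY⟩ ⟨d, hDY hd⟩ hd
  exact ⟨e, he, congrArg Subtype.val h⟩

/-- a four-group with a non-centralizing normalizing element whose square lies in it gives a dihedral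
or quaternion configuration. -/
theorem exists_dq_of_four {G : Type*} [Group G] (D : Subgroup G) (hD2 : ∀ d ∈ D, d ^ 2 = 1)
    (hcard : Nat.card D = 4) {x : G} (hxN : ∀ d ∈ D, x * d * x⁻¹ ∈ D) (hx2 : x ^ 2 ∈ D) {d₁ : G}
    (hd₁ : d₁ ∈ D) (hne : x * d₁ * x⁻¹ ≠ d₁) :
    ∃ u v : G, (u = x * d₁ ∨ u = x) ∧ v = d₁ ∧
      u ^ 2 ≠ 1 ∧ u ^ 4 = 1 ∧ v * u * v⁻¹ = u⁻¹ ∧ (v ^ 2 = 1 ∨ v ^ 2 = u ^ 2) := by
  have hfin : Finite D := Nat.finite_of_card_ne_zero (by rw [hcard]; norm_num)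
  have hinv : ∀ d ∈ D, d⁻¹ = d := by
    intro d hd
    rw [inv_eq_iff_mul_eq_one, ← sq]
    exact hD2 d hd
  have hab : ∀ u ∈ D, ∀ v ∈ D, u * v = v * u := by
    intro u hu v hv
    have h1 := hinv _ (D.mul_mem hu hv)
    rw [mul_inv_rev, hinv u hu, hinv v hv] at h1
    exact h1.symm
  obtain ⟨d₂, hd₂e⟩ : ∃ d₂, d₂ = x * d₁ * x⁻¹ := ⟨_, rfl⟩
  have hd₂ : d₂ ∈ D := hd₂e ▸ hxN d₁ hd₁
  have hxd : x * d₁ = d₂ * x := by rw [hd₂e]; group
  obtain ⟨z, hz⟩ : ∃ z, z = d₁ * d₂ := ⟨_, rfl⟩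
  have hzD : z ∈ D := hz ▸ D.mul_mem hd₁ hd₂
  have hz1 : z ≠ 1 := by
    intro h
    rw [hz] at h
    apply hne
    rw [← hd₂e]
    have := eq_inv_of_mul_eq_one_right h
    rw [this, hinv d₁ hd₁]
  have hxd2 : x * d₂ = d₁ * x := by
    have h1 : x ^ 2 * d₁ = d₁ * x ^ 2 := hab _ hx2 _ hd₁
    have h2 : x * d₂ * x = d₁ * x * x := by
      calc x * d₂ * x = x * (d₂ * x) := by group
        _ = x * (x * d₁) := by rw [hxd]
        _ = x ^ 2 * d₁ := by rw [sq]; group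
        _ = d₁ * x ^ 2 := h1
        _ = d₁ * x * x := by rw [sq]; group
    exact mul_right_cancel h2
  have hxz : x * z = z * x := by
    calc x * z = (x * d₁) * d₂ := by rw [hz]; group
      _ = d₂ * (x * d₂) := by rw [hxd]; group
      _ = d₂ * d₁ * x := by rw [hxd2]; group
      _ = z * x := by rw [hz, hab d₂ hd₂ d₁ hd₁]
  -- `x ^ 2 ∈ {1, z}`
  have hcz : x ^ 2 = 1 ∨ x ^ 2 = z := by
    have hCD : D ⊓ centralizer {x} ≤ D := inf_le_left
    have hfinC : Finite ↥(D ⊓ centralizer {x}) :=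
      Finite.of_injective _ (Subgroup.inclusion_injective hCD)
    have hzC : z ∈ D ⊓ centralizer {x} := ⟨hzD, mem_centralizer_singleton_iff.2 hxz.symm⟩
    have hx2C : x ^ 2 ∈ D ⊓ centralizer {x} :=
      ⟨hx2, mem_centralizer_singleton_iff.2 (by rw [← pow_succ, ← pow_succ'])⟩
    have hdvd : Nat.card ↥(D ⊓ centralizer {x}) ∣ 4 := hcard ▸ Subgroup.card_dvd_of_le hCD
    have hne4 : Nat.card ↥(D ⊓ centralizer {x}) ≠ 4 := by
      intro h
      have := Subgroup.eq_of_le_of_card_ge hCD (by rw [h, hcard])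
      have hd1C : d₁ ∈ D ⊓ centralizer {x} := by rw [this]; exact hd₁
      have h2 := mem_centralizer_singleton_iff.1 hd1C.2
      apply hne
      rw [← h2]; group
    have hle2 : Nat.card ↥(D ⊓ centralizer {x}) ≤ 2 := by
      have h4 := Nat.le_of_dvd (by norm_num) hdvd
      interval_cases h : Nat.card ↥(D ⊓ centralizer {x})
      · omega
      · omega
      · omega
      · norm_num at hdvd
      · exact absurd rfl hne4
    have hoz : orderOf z = 2 := orderOf_eq_prime (hD2 z hzD) hz1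
    have heq : zpowers z = D ⊓ centralizer {x} :=
      Subgroup.eq_of_le_of_card_ge (zpowers_le.2 hzC) (by rw [Nat.card_zpowers, hoz]; exact hle2)
    rw [← heq] at hx2C
    obtain ⟨i, hi⟩ := mem_zpowers_iff.1 hx2C
    rcases Int.even_or_odd' i with ⟨q, rfl | rfl⟩
    · left
      rw [← hi, zpow_mul]
      have : z ^ (2 : ℤ) = 1 := by simpa using hD2 z hzD
      rw [this, one_zpow]
    · right
      rw [← hi, zpow_add, zpow_mul, zpow_one]
      have : z ^ (2 : ℤ) = 1 := by simpa using hD2 z hzD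
      rw [this, one_zpow, one_mul]
  have hz2 : z ^ 2 = 1 := hD2 z hzD
  rcases hcz with hx | hx
  · refine ⟨x * d₁, d₁, Or.inl rfl, rfl, ?_, ?_, ?_, Or.inl (hD2 d₁ hd₁)⟩
    · have : (x * d₁) ^ 2 = z := by
        calc (x * d₁) ^ 2 = (x * d₁) * x * d₁ := by rw [sq]; group
          _ = d₂ * x ^ 2 * d₁ := by rw [hxd, sq]; group
          _ = z := by rw [hx, mul_one, hz, hab d₂ hd₂ d₁ hd₁]
      rw [this]; exact hz1
    · have : (x * d₁) ^ 2 = z := by
        calc (x * d₁) ^ 2 = (x * d₁) * x * d₁ := by rw [sq]; group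
          _ = d₂ * x ^ 2 * d₁ := by rw [hxd, sq]; group
          _ = z := by rw [hx, mul_one, hz, hab d₂ hd₂ d₁ hd₁]
      rw [show 4 = 2 * 2 by norm_num, pow_mul, this, hz2]
    · have hxi : x⁻¹ = x := by rw [inv_eq_iff_mul_eq_one, ← sq, hx]
      rw [mul_inv_rev, hxi, hinv d₁ hd₁]
      calc d₁ * (x * d₁) * d₁ = d₁ * x * d₁ ^ 2 := by rw [sq]; group
        _ = d₁ * x := by rw [hD2 d₁ hd₁, mul_one]
  · refine ⟨x, d₁, Or.inr rfl, rfl, by rw [hx]; exact hz1, ?_, ?_, Or.inl (hD2 d₁ hd₁)⟩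
    · rw [show 4 = 2 * 2 by norm_num, pow_mul, hx, hz2]
    · rw [hinv d₁ hd₁, eq_inv_iff_mul_eq_one]
      calc d₁ * x * d₁ * x = d₁ * (x * d₁) * x := by group
        _ = (d₁ * d₂) * x ^ 2 := by rw [hxd, sq]; group
        _ = 1 := by rw [← hz, hx, ← sq, hz2]

/-- facts on homocyclic groups of rank two. -/
theorem homocyclic_comm {H : Type*} [Group H] {n : ℕ}
    (e : H ≃* Multiplicative (ZMod (2 ^ n)) × Multiplicative (ZMod (2 ^ n))) (u v : H) :
    u * v = v * u := by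
  apply e.injective
  rw [map_mul, map_mul, mul_comm]

theorem zmod_sq_of_two_mul_eq_zero {n : ℕ} (hn : n ≠ 1) (w : ZMod (2 ^ n)) (hw : 2 • w = 0) :
    ∃ e : ZMod (2 ^ n), w = 2 • e := by
  rcases n with _ | _ | n
  · have : Subsingleton (ZMod (2 ^ 0)) := by
      rw [pow_zero]; infer_instance
    exact ⟨0, Subsingleton.elim _ _⟩
  · exact absurd rfl hn
  · have : NeZero (2 ^ (n + 2)) := ⟨by positivity⟩
    have h1 : ((2 * w.val : ℕ) : ZMod (2 ^ (n + 2))) = 0 := by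
      rw [Nat.cast_mul, ZMod.natCast_zmod_val]
      simpa using hw
    rw [ZMod.natCast_eq_zero_iff] at h1
    have h2 : 2 ^ (n + 1) ∣ w.val := by
      have h1' : 2 * 2 ^ (n + 1) ∣ 2 * w.val := by
        have e1 : 2 * 2 ^ (n + 1) = 2 ^ (n + 2) := by ring
        rw [e1]; exact h1
      exact Nat.dvd_of_mul_dvd_mul_left (by norm_num) h1'
    obtain ⟨q, hq⟩ := h2
    refine ⟨((2 ^ n * q : ℕ) : ZMod (2 ^ (n + 2))), ?_⟩
    rw [← ZMod.natCast_zmod_val w, hq, nsmul_eq_mul, ← Nat.cast_mul]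
    congr 1
    ring

theorem homocyclic_sq {H : Type*} [Group H] {n : ℕ} (hn : n ≠ 1)
    (e : H ≃* Multiplicative (ZMod (2 ^ n)) × Multiplicative (ZMod (2 ^ n))) (w : H)
    (hw : w ^ 2 = 1) : ∃ v : H, w = v ^ 2 := by
  have h1 : (e w) ^ 2 = 1 := by rw [← map_pow, hw, map_one]
  have h2 : 2 • Multiplicative.toAdd (e w).1 = 0 := congrArg (fun z => Multiplicative.toAdd z.1) h1
  have h3 : 2 • Multiplicative.toAdd (e w).2 = 0 := congrArg (fun z => Multiplicative.toAdd z.2) h1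
  obtain ⟨v1, hv1⟩ := zmod_sq_of_two_mul_eq_zero hn _ h2
  obtain ⟨v2, hv2⟩ := zmod_sq_of_two_mul_eq_zero hn _ h3
  refine ⟨e.symm (Multiplicative.ofAdd v1, Multiplicative.ofAdd v2), ?_⟩
  apply e.injective
  rw [map_pow, MulEquiv.apply_symm_apply]
  ext
  · exact hv1
  · exact hv2

theorem homocyclic_one {H : Type*} [Group H]
    (e : H ≃* Multiplicative (ZMod (2 ^ 1)) × Multiplicative (ZMod (2 ^ 1))) :
    (∀ w : H, w ^ 2 = 1) ∧ Nat.card H = 4 := by
  constructor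
  · intro w
    apply e.injective
    rw [map_pow, map_one]
    generalize e w = z
    revert z
    decide
  · rw [Nat.card_congr e.toEquiv, Nat.card_prod]
    have : Nat.card (Multiplicative (ZMod (2 ^ 1))) = 2 := by
      show Nat.card (ZMod (2 ^ 1)) = 2
      rw [Nat.card_zmod]
      norm_num
    rw [this]

end Cfsg.Agent.Lib.Helper64
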