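import Cfsg.Agent.Lib.Helper64.IrredGroup
import Cfsg.Agent.Lib.Helper64.Sylow
import Cfsg.Agent.Lib.Helper22.CoprimeP
import Cfsg.Agent.Lib.Lead.Cores

set_option autoImplicit false

namespace Cfsg.Agent.Lib.Helper64

open Subgroup

variable {G : Type*} [Group G]

/-- a subgroup `B` of an abelian subgroup `A`, invariant under `y`, is normal if `A ⊔ ⟨y⟩ = ⊤`. -/
theorem normal_of_invariant [Finite G] (A B : Subgroup G)
    (comm : ∀ a ∈ A, ∀ b ∈ A, a * b = b * a) (hBA : B ≤ A) (y : G)
    (hy : ∀ b ∈ B, y * b * y⁻¹ ∈ B) (htop : A ⊔ zpowers y = ⊤) : B.Normal := by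
  rw [← normalizer_eq_top_iff, eq_top_iff, ← htop]
  apply sup_le
  · intro a ha
    rw [mem_normalizer_iff]
    intro h
    constructor
    · intro hh
      have : a * h * a⁻¹ = h := by rw [comm a ha h (hBA hh)]; group
      rw [this]; exact hh
    · intro hh
      have hhA : h ∈ A := by
        have h1 : a⁻¹ * (a * h * a⁻¹) * a ∈ A := A.mul_mem (A.mul_mem (A.inv_mem ha) (hBA hh)) ha
        simpa [mul_assoc] using h1
      have : a * h * a⁻¹ = h := by rw [comm a ha h hhA]; group
      rw [this] at hh; exact hh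
  · rw [zpowers_le, mem_normalizer_iff]
    intro h
    constructor
    · exact hy h
    · intro hh
      have hinj : Function.Injective (fun b : B => (⟨y * b * y⁻¹, hy b b.2⟩ : B)) := by
        intro b c hbc
        have h1 : y * (b : G) * y⁻¹ = y * c * y⁻¹ := congrArg Subtype.val hbc
        apply Subtype.ext
        exact mul_left_cancel (mul_right_cancel h1)
      obtain ⟨b, hb⟩ := (Finite.injective_iff_surjective.1 hinj) ⟨_, hh⟩
      have h1 : y * (b : G) * y⁻¹ = y * h * y⁻¹ := congrArg Subtype.val hb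
      have : (b : G) = h := mul_left_cancel (mul_right_cancel h1)
      exact this ▸ b.2

/-- a minimal normal subgroup which is a `q`-group is elementary abelian. -/
theorem elementary_abelian_of_minimal_normal [Finite G] {q : ℕ} [Fact q.Prime] (A : Subgroup G)
    [A.Normal] (hAne : A ≠ ⊥) (hAq : IsPGroup q A)
    (hmin : ∀ B : Subgroup G, B.Normal → B ≤ A → B = ⊥ ∨ B = A) :
    IsMulCommutative A ∧ ∀ a ∈ A, a ^ q = 1 := by
  have hAn : A.Normal := inferInstance
  have hnt : Nontrivial A := (Subgroup.nontrivial_iff_ne_bot A).2 hAne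
  have hcomm : ∀ a ∈ A, ∀ b ∈ A, a * b = b * a := by
    have hZn : ((center A).map A.subtype).Normal :=
      Cfsg.Agent.Lib.Lead.normal_map_subtype_of_characteristic A (center A)
    have hZ : (center A).map A.subtype = A := by
      rcases hmin _ hZn (map_subtype_le _) with h | h
      · exfalso
        rw [Subgroup.map_eq_bot_iff_of_injective _ A.subtype_injective] at h
        have := hAq.center_nontrivial
        exact (Subgroup.nontrivial_iff_ne_bot _).1 this h
      · exact h
    intro a ha b hb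
    have ha' : a ∈ (center A).map A.subtype := by rw [hZ]; exact ha
    obtain ⟨z, hz, rfl⟩ := ha'
    have := (mem_center_iff.1 hz) ⟨b, hb⟩
    exact (congrArg Subtype.val this).symm
  refine ⟨⟨⟨fun a b => Subtype.ext (hcomm a a.2 b b.2)⟩⟩, ?_⟩
  let B : Subgroup G :=
    { carrier := {a | a ∈ A ∧ a ^ q = 1}
      mul_mem' := by
        rintro a b ⟨ha, ha'⟩ ⟨hb, hb'⟩
        refine ⟨A.mul_mem ha hb, ?_⟩
        rw [(show Commute a b from hcomm a ha b hb).mul_pow, ha', hb', one_mul]
      one_mem' := ⟨A.one_mem, one_pow _⟩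
      inv_mem' := by
        rintro a ⟨ha, ha'⟩
        exact ⟨A.inv_mem ha, by rw [inv_pow, ha', inv_one]⟩ }
  have hBmem : ∀ a, a ∈ B ↔ a ∈ A ∧ a ^ q = 1 := fun a => Iff.rfl
  have hBn : B.Normal := by
    constructor
    intro a ha g
    rw [hBmem] at ha ⊢
    refine ⟨hAn.conj_mem a ha.1 g, ?_⟩
    rw [conj_pow, ha.2]; group
  have hBne : B ≠ ⊥ := by
    obtain ⟨n, hn⟩ := hAq.exists_card_eq
    have hq : q ∣ Nat.card A := by
      rcases n with _ | n
      · exfalso
        rw [pow_zero] at hn
        exact hAne ((Subgroup.card_eq_one).1 hn)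
      · rw [hn, pow_succ]; exact Dvd.intro_left _ rfl
    obtain ⟨a, ha⟩ := exists_prime_orderOf_dvd_card' q hq
    intro hbot
    have : (a : G) ∈ B := by
      rw [hBmem]
      refine ⟨a.2, ?_⟩
      have := pow_orderOf_eq_one a
      rw [ha] at this
      exact congrArg Subtype.val this
    rw [hbot, mem_bot] at this
    have h1 : a = 1 := Subtype.ext this
    rw [h1, orderOf_one] at ha
    exact (Fact.out : q.Prime).one_lt.ne ha
  have hBA : B = A := (hmin B hBn (fun a ha => ha.1)).resolve_left hBne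
  intro a ha
  have : a ∈ B := by rw [hBA]; exact ha
  exact this.2

/-- elements in a `p`-subgroup and in a subgroup of order prime to `p` are trivial -/
theorem inf_eq_bot_of_isPGroup_of_not_dvd [Finite G] {p : ℕ} [Fact p.Prime] (P A : Subgroup G)
    (hP : IsPGroup p P) (hA : ¬ p ∣ Nat.card A) : P ⊓ A = ⊥ := by
  have h1 : IsPGroup p (P ⊓ A : Subgroup G) := hP.to_le inf_le_left
  obtain ⟨n, hn⟩ := h1.exists_card_eq
  rcases n with _ | n
  · exact (Subgroup.card_eq_one).1 (by simpa using hn)
  · exfalso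
    apply hA
    have h2 : Nat.card (P ⊓ A : Subgroup G) ∣ Nat.card A := Subgroup.card_dvd_of_le inf_le_right
    rw [hn, pow_succ] at h2
    exact (Dvd.intro_left _ rfl).trans h2

/-- The common structure argument for minimal non-`p`-closed type groups. -/
theorem structure_of_minimal [Finite G] {p : ℕ} [Fact p.Prime] (A : Subgroup G) [A.Normal]
    (hAne : A ≠ ⊥) (hmin : ∀ B : Subgroup G, B.Normal → B ≤ A → B = ⊥ ∨ B = A)
    (P : Subgroup G) (hP : IsPGroup p P) (hPne : P ≠ ⊥) (hPA : P ⊔ A = ⊤) (hpA : ¬ p ∣ Nat.card A)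
    (hcent : ∀ P0 K : Subgroup G, P0 ≤ P → K ≤ A → P0 ≤ normalizer (K : Set G) → P0 ⊔ K ≠ ⊤ →
      ∀ s ∈ P0, ∀ a ∈ K, s * a = a * s)
    (hfaith : P ⊓ centralizer (A : Set G) = ⊥) :
    ∃ q : ℕ, q.Prime ∧ q ≠ p ∧ Nat.card G = p * q ^ orderOf (q : ZMod p) ∧
      Nat.card ↥A = q ^ orderOf (q : ZMod p) ∧ IsMulCommutative A ∧ ∀ a ∈ A, a ^ q = 1 := by
  have hAn : A.Normal := inferInstance
  have hPAbot : P ⊓ A = ⊥ := inf_eq_bot_of_isPGroup_of_not_dvd P A hP hpA
  -- (i) some invariant Sylow subgroup of A generates G with P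
  have hex : ∃ q : ℕ, q.Prime ∧ ∃ R : Subgroup G, R ≤ A ∧ IsPGroup q R ∧ P ≤ normalizer (R : Set G) ∧
      P ⊔ R = ⊤ := by
    by_contra hcon
    push Not at hcon
    apply hPne
    rw [← hfaith]
    refine (inf_of_le_left ?_).symm
    -- P centralizes A
    have hC : A ⊓ centralizer (P : Set G) = A := by
      apply Subgroup.eq_of_le_of_card_ge inf_le_left
      apply Nat.le_of_dvd Nat.card_pos
      rw [← Nat.factorization_prime_le_iff_dvd Nat.card_pos.ne' Nat.card_pos.ne']
      intro r hr
      have : Fact r.Prime := ⟨hr⟩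
      obtain ⟨R, ⟨S, hS⟩, hPR⟩ := Cfsg.Agent.Lib.Helper22.exists_invariant_isSylowIn P A hP hpA
        le_normalizer_of_normal r
      have hRA : R ≤ A := hS ▸ map_subtype_le _
      have hRr : IsPGroup r R := hS ▸ S.2.map _
      have hne := hcon r hr R hRA hRr hPR
      have hc := hcent P R le_rfl hRA hPR hne
      have hRC : R ≤ A ⊓ centralizer (P : Set G) := by
        refine le_inf hRA ?_
        intro a ha
        rw [mem_centralizer_iff]
        intro s hs
        exact hc s hs a ha
      have hcardR : Nat.card R = r ^ (Nat.card A).factorization r := by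
        rw [← hS, Subgroup.card_map_of_injective A.subtype_injective]
        exact S.card_eq_multiplicity
      have hdvd := Subgroup.card_dvd_of_le hRC
      rw [hcardR] at hdvd
      exact (hr.pow_dvd_iff_le_factorization Nat.card_pos.ne').1 hdvd
    intro s hs
    rw [mem_centralizer_iff]
    intro a ha
    have : a ∈ A ⊓ centralizer (P : Set G) := by rw [hC]; exact ha
    exact ((mem_centralizer_iff.1 this.2) s hs).symm
  obtain ⟨q, hq, R, hRA, hRq, hPR, hPRtop⟩ := hex
  have : Fact q.Prime := ⟨hq⟩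
  -- (ii) R = A
  have hAR : A ≤ R := by
    intro a ha
    have h1 : a ∈ ((P ⊔ R : Subgroup G) : Set G) := by rw [hPRtop]; exact mem_top a
    rw [coe_mul_of_left_le_normalizer_right P R hPR] at h1
    obtain ⟨s, hs, r, hr, hsr⟩ := h1
    simp only at hsr
    have hsA : s ∈ A := by
      have : s = a * r⁻¹ := by rw [← hsr]; group
      rw [this]; exact A.mul_mem ha (A.inv_mem (hRA hr))
    have hs1 : s ∈ P ⊓ A := ⟨hs, hsA⟩
    rw [hPAbot, mem_bot] at hs1
    rw [← hsr, hs1, one_mul]; exact hr
  have hAq : IsPGroup q A := hRq.to_le hAR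
  obtain ⟨hAc, hAexp⟩ := elementary_abelian_of_minimal_normal A hAne hAq hmin
  have hcomm : ∀ a ∈ A, ∀ b ∈ A, a * b = b * a := fun a ha b hb =>
    congrArg Subtype.val (hAc.is_comm.comm (⟨a, ha⟩ : A) ⟨b, hb⟩)
  have hqp : q ≠ p := by
    rintro rfl
    apply hpA
    obtain ⟨n, hn⟩ := hAq.exists_card_eq
    rcases n with _ | n
    · exfalso
      rw [pow_zero] at hn
      exact hAne ((Subgroup.card_eq_one).1 hn)
    · rw [hn, pow_succ]; exact Dvd.intro_left _ rfl
  -- (v) proper subgroups of P are trivial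
  have hprop : ∀ P0 : Subgroup G, P0 ≤ P → P0 ≠ P → P0 = ⊥ := by
    intro P0 hP0 hne
    have htop : P0 ⊔ A ≠ ⊤ := by
      intro htop
      apply hne
      apply le_antisymm hP0
      intro s hs
      have h1 : s ∈ P0 ⊔ A := by rw [htop]; exact mem_top s
      rw [mem_sup_of_normal_right] at h1
      obtain ⟨s0, hs0, a, ha, hsa⟩ := h1
      have haP : a ∈ P := by
        have : a = s0⁻¹ * s := by rw [← hsa]; group
        rw [this]; exact P.mul_mem (P.inv_mem (hP0 hs0)) hs
      have ha1 : a ∈ P ⊓ A := ⟨haP, ha⟩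
      rw [hPAbot, mem_bot] at ha1
      rw [← hsa, ha1, mul_one]; exact hs0
    have hc := hcent P0 A hP0 le_rfl le_normalizer_of_normal htop
    rw [eq_bot_iff, ← hfaith]
    refine le_inf hP0 ?_
    intro s hs
    rw [mem_centralizer_iff]
    intro a ha
    exact (hc s hs a ha).symm
  -- (vi) P is cyclic of order p
  have hpP : p ∣ Nat.card P := by
    obtain ⟨n, hn⟩ := hP.exists_card_eq
    rcases n with _ | n
    · exfalso
      rw [pow_zero] at hn
      exact hPne ((Subgroup.card_eq_one).1 hn)
    · rw [hn, pow_succ]; exact Dvd.intro_left _ rfl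
  obtain ⟨y', hy'⟩ := exists_prime_orderOf_dvd_card' p hpP
  set y : G := (y' : G) with hydef
  have hyP : y ∈ P := y'.2
  have hyord : orderOf y = p := by rw [hydef, Subgroup.orderOf_coe, hy']
  have hy1 : y ≠ 1 := by
    intro h
    rw [h, orderOf_one] at hyord
    exact (Fact.out : p.Prime).one_lt.ne hyord
  have hPy : zpowers y = P := by
    by_contra hne
    have := hprop (zpowers y) ((zpowers_le).2 hyP) hne
    rw [zpowers_eq_bot] at this
    exact hy1 this
  have hcardP : Nat.card P = p := by rw [← hPy, Nat.card_zpowers, hyord]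
  have htop' : A ⊔ zpowers y = ⊤ := by rw [hPy, sup_comm]; exact hPA
  -- (vii)
  have hcardA : Nat.card A = q ^ orderOf (q : ZMod p) := by
    apply card_eq_pow_orderOf_of_minimal hqp A hAc hAexp hAne y
    · intro a ha; exact hAn.conj_mem a ha y
    · intro a _
      have : y ^ p = 1 := by rw [← hyord]; exact pow_orderOf_eq_one y
      rw [this]; group
    · by_contra hcon
      push Not at hcon
      apply hy1
      have : y ∈ P ⊓ centralizer (A : Set G) := by
        rw [mem_inf]
        refine ⟨hyP, ?_⟩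
        rw [mem_centralizer_iff]
        intro a ha
        have := hcon a ha
        rw [mul_inv_eq_iff_eq_mul] at this
        exact this.symm
      rw [hfaith, mem_bot] at this
      exact this
    · intro B hBA hB
      exact hmin B (normal_of_invariant A B hcomm hBA y hB htop') hBA
  refine ⟨q, hq, hqp, ?_, hcardA, hAc, hAexp⟩
  have hidx : A.index = Nat.card P := by
    rw [← relIndex_top_right, ← hPA, relIndex_sup_right, ← inf_relIndex_right, inf_comm, hPAbot,
      relIndex_bot_left]
  rw [← Subgroup.card_mul_index A, hidx, hcardP, hcardA, mul_comm]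

end Cfsg.Agent.Lib.Helper64
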