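import Mathlib

set_option autoImplicit false

/-! An endomorphism `1 + N` of order `p ≥ 5` of an abelian group with `N² ≡ 0 mod p` has
`p N ≡ 0 mod p²` (helper64). -/

namespace Cfsg.Agent.Lib.Helper64

variable {V : Type*} [AddCommGroup V]

theorem end_add_apply (f g : AddMonoid.End V) (v : V) : (f + g) v = f v + g v := rfl

theorem end_mul_apply (f g : AddMonoid.End V) (v : V) : (f * g) v = f (g v) := rfl

/-- the endomorphism has image in `p^k V`. -/
def Dv (p k : ℕ) (f : AddMonoid.End V) : Prop := ∀ v, ∃ u, f v = (p ^ k) • u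

theorem Dv.zero' (p : ℕ) (f : AddMonoid.End V) : Dv p 0 f := fun v => ⟨f v, by simp⟩

theorem Dv.add {p k : ℕ} {f g : AddMonoid.End V} (hf : Dv p k f) (hg : Dv p k g) : Dv p k (f + g) := by
  intro v
  obtain ⟨u, hu⟩ := hf v
  obtain ⟨u', hu'⟩ := hg v
  exact ⟨u + u', by rw [end_add_apply, hu, hu', smul_add]⟩

theorem Dv.mul {p a b : ℕ} {f g : AddMonoid.End V} (hf : Dv p a f) (hg : Dv p b g) :
    Dv p (a + b) (f * g) := by
  intro v
  obtain ⟨u, hu⟩ := hg v
  obtain ⟨u', hu'⟩ := hf u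
  refine ⟨u', ?_⟩
  rw [end_mul_apply, hu, map_nsmul, hu', ← mul_smul, pow_add, mul_comm]

theorem Dv.sum {p k : ℕ} {ι : Type*} (s : Finset ι) (f : ι → AddMonoid.End V)
    (h : ∀ i ∈ s, Dv p k (f i)) : Dv p k (∑ i ∈ s, f i) := by
  classical
  induction s using Finset.induction_on with
  | empty => intro v; exact ⟨0, by simp⟩
  | insert a s ha ih =>
    rw [Finset.sum_insert ha]
    exact (h a (Finset.mem_insert_self a s)).add (ih fun i hi => h i (Finset.mem_insert_of_mem hi))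

theorem Dv.natCast (p c : ℕ) : Dv p 1 (((p * c : ℕ) : AddMonoid.End V)) := by
  intro v
  exact ⟨c • v, by rw [AddMonoid.End.natCast_apply, pow_one, mul_smul]⟩

theorem smul_apply_mem_of_pow_eq_one {p : ℕ} (hp : p.Prime) (h5 : 3 < p)
    (N : AddMonoid.End V) (hφ : (1 + N) ^ p = 1) (hN2 : ∀ v, ∃ u, N (N v) = p • u) (v : V) :
    ∃ u, p • N v = (p ^ 2) • u := by
  obtain ⟨q, rfl⟩ : ∃ q, p = q + 2 := ⟨p - 2, by omega⟩
  have hD : Dv (q + 2) 1 (N ^ 2) := by
    intro v
    obtain ⟨u, hu⟩ := hN2 v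
    exact ⟨u, by rw [pow_two, end_mul_apply, hu, pow_one]⟩
  have hexp := (Commute.one_left N).add_pow (q + 2)
  rw [hφ, Finset.sum_range_succ, Finset.sum_range_succ] at hexp
  have hS : Dv (q + 2) 2 (∑ m ∈ Finset.range (q + 1),
      (1 : AddMonoid.End V) ^ m * N ^ (q + 2 - m) * (((q + 2).choose m : ℕ) : AddMonoid.End V)) := by
    apply Dv.sum
    intro m hm
    rw [Finset.mem_range] at hm
    rw [one_pow, one_mul]
    rcases Nat.eq_zero_or_pos m with rfl | hm0
    · have e : q + 2 - 0 = 2 + 2 + (q - 2) := by omega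
      rw [e, pow_add, pow_add, Nat.choose_zero_right, Nat.cast_one, mul_one]
      exact (hD.mul hD).mul (Dv.zero' _ _)
    · obtain ⟨c, hc⟩ := hp.dvd_choose_self hm0.ne' (by omega : m < q + 2)
      have e : q + 2 - m = 2 + (q - m) := by omega
      rw [e, pow_add, hc]
      exact (hD.mul (Dv.zero' _ _)).mul (Dv.natCast _ c)
  obtain ⟨u, hu⟩ := hS v
  refine ⟨-u, ?_⟩
  have h1 := congrArg (fun f : AddMonoid.End V => f v) hexp
  simp only [end_add_apply] at h1
  rw [hu] at h1
  have e1 : q + 2 - (q + 1) = 1 := by omega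
  have e2 : (q + 2).choose (q + 1) = q + 2 := by
    rw [show q + 2 = (q + 1) + 1 from rfl, Nat.choose_succ_self_right]
  rw [one_pow, one_pow, one_mul, one_mul, e1, pow_one, e2, Nat.sub_self, pow_zero, Nat.choose_self,
    Nat.cast_one, mul_one, end_mul_apply, AddMonoid.End.natCast_apply, map_nsmul] at h1
  have h2 : (1 : AddMonoid.End V) v = v := rfl
  rw [h2] at h1
  have h3 : (q + 2) ^ 2 • u + (q + 2) • N v = 0 := by
    have := h1.symm
    rwa [add_eq_right] at this
  rw [smul_neg, eq_neg_iff_add_eq_zero, add_comm]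
  exact h3

end Cfsg.Agent.Lib.Helper64
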