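import Mathlib
import Cfsg.Agent.S4207
import Cfsg.Agent.Lib.Helper2.PGroupFrattini

set_option autoImplicit false

/-! The automorphisms of a finite `p`-group acting trivially on the Frattini quotient form a normal
`p`-subgroup of the automorphism group (helper64; the order bound is S4207). -/

namespace Cfsg.Agent.Lib.Helper64

open Subgroup

variable {P : Type*} [Group P]

theorem map_mem_frattini_iff (φ : MulAut P) {x : P} : φ x ∈ frattini P ↔ x ∈ frattini P := by
  have h := (frattini_characteristic (G := P)).fixed φ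
  constructor
  · intro hx
    rw [← h]
    exact hx
  · intro hx
    rw [← h] at hx
    exact hx

/-- automorphisms trivial on the Frattini quotient. -/
def frattiniKer (P : Type*) [Group P] : Subgroup (MulAut P) where
  carrier := {α | ∀ x, α x * x⁻¹ ∈ frattini P}
  one_mem' := by
    intro x
    simp
  mul_mem' := by
    intro α β hα hβ x
    have h := (frattini P).mul_mem (hα (β x)) (hβ x)
    have h2 : α (β x) * (β x)⁻¹ * (β x * x⁻¹) = (α * β) x * x⁻¹ := by
      rw [MulAut.mul_apply]; group
    rwa [h2] at h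
  inv_mem' := by
    intro α hα x
    have h := (frattini P).inv_mem (hα (α⁻¹ x))
    rw [MulAut.apply_inv_self] at h
    have h2 : (x * (α⁻¹ x)⁻¹)⁻¹ = α⁻¹ x * x⁻¹ := by group
    rwa [h2] at h

theorem mem_frattiniKer {α : MulAut P} : α ∈ frattiniKer P ↔ ∀ x, α x * x⁻¹ ∈ frattini P := Iff.rfl

instance frattiniKer_normal : (frattiniKer P).Normal := by
  constructor
  intro α hα γ x
  have h := (map_mem_frattini_iff γ).2 (hα (γ⁻¹ x))
  rw [map_mul, map_inv, MulAut.apply_inv_self] at h
  exact h

theorem isPGroup_frattiniKer [Finite P] {p : ℕ} [hp : Fact p.Prime] (hP : IsPGroup p P) :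
    IsPGroup p (frattiniKer P) := by
  obtain ⟨n, hn⟩ := IsPGroup.iff_card.1 hP
  obtain ⟨r, -, hr⟩ := (Nat.dvd_prime_pow hp.out).1 (hn ▸ (frattini P).index_dvd_card)
  have h := Cfsg.Agent.S4207.result hn hr (frattiniKer P) (fun α hα => hα)
  obtain ⟨e, -, he⟩ := (Nat.dvd_prime_pow hp.out).1 h
  exact IsPGroup.of_card he

end Cfsg.Agent.Lib.Helper64
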