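import Mathlib
import Cfsg.Agent.Lib.Lead.Cores
import Cfsg.Agent.Lib.Helper87.StabChain

set_option autoImplicit false

/-! Automorphisms in `A ≤ Aut(R)` that are trivial on `R/D` and restrict on the `A`-invariant subgroup
`D` to an element of a normal `p`-subgroup `T` of `Aut(D)` lie in `O_p(A)` (helper64). -/

namespace Cfsg.Agent.Lib.Helper64

open Subgroup Cfsg Cfsg.Agent.Lib.Lead Cfsg.Agent.Lib.Helper87

variable {R : Type*} [Group R]

/-- restriction of an automorphism to an invariant subgroup. -/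
def resAut (D : Subgroup R) (g : MulAut R) (h : ∀ d ∈ D, g d ∈ D) (h' : ∀ d ∈ D, g⁻¹ d ∈ D) :
    MulAut D where
  toFun d := ⟨g d, h d d.2⟩
  invFun d := ⟨g⁻¹ d, h' d d.2⟩
  left_inv d := by ext; simp
  right_inv d := by ext; simp
  map_mul' x y := by ext; simp

@[simp] theorem resAut_apply (D : Subgroup R) (g : MulAut R) (h : ∀ d ∈ D, g d ∈ D)
    (h' : ∀ d ∈ D, g⁻¹ d ∈ D) (d : D) : ((resAut D g h h' d : D) : R) = g d := rfl

theorem resAut_inv_apply (D : Subgroup R) (g : MulAut R) (h : ∀ d ∈ D, g d ∈ D)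
    (h' : ∀ d ∈ D, g⁻¹ d ∈ D) (d : D) : (((resAut D g h h')⁻¹ d : D) : R) = g⁻¹ d := rfl

theorem mem_pCore_of_res [Finite R] {p : ℕ} [Fact p.Prime]
    (A : Subgroup (MulAut R)) (D : Subgroup R) (hinv : ∀ α ∈ A, ∀ d ∈ D, α d ∈ D)
    (T : Subgroup (MulAut D)) [hTn : T.Normal] (hT : IsPGroup p T) (hR : IsPGroup p R)
    (α : MulAut R) (hα : α ∈ A) (h1 : ∀ r, r⁻¹ * α r ∈ D)
    (h2 : ∃ τ ∈ T, ∀ d : D, ((τ d : D) : R) = α d) :
    α ∈ (pCore p A).map A.subtype := by
  let K : Subgroup A :=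
    { carrier := {β | (∀ r, r⁻¹ * (β : MulAut R) r ∈ D) ∧
        ∃ τ ∈ T, ∀ d : D, ((τ d : D) : R) = (β : MulAut R) d}
      one_mem' := by
        refine ⟨fun r => by simp, 1, T.one_mem, fun d => rfl⟩
      mul_mem' := by
        rintro a b ⟨ha1, τ, hτ, ha2⟩ ⟨hb1, σ, hσ, hb2⟩
        refine ⟨fun r => ?_, τ * σ, T.mul_mem hτ hσ, fun d => ?_⟩
        · have e1 : r⁻¹ * ((a * b : A) : MulAut R) r
              = (r⁻¹ * (a : MulAut R) r) * (a : MulAut R) (r⁻¹ * (b : MulAut R) r) := by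
            rw [map_mul, map_inv]
            show r⁻¹ * (a : MulAut R) ((b : MulAut R) r) = _
            group
          rw [e1]
          exact D.mul_mem (ha1 r) (hinv a a.2 _ (hb1 r))
        · show ((τ (σ d) : D) : R) = (a : MulAut R) ((b : MulAut R) d)
          rw [ha2, hb2]
      inv_mem' := by
        rintro a ⟨ha1, τ, hτ, ha2⟩
        refine ⟨fun r => ?_, τ⁻¹, T.inv_mem hτ, fun d => ?_⟩
        · have h3 := D.inv_mem (ha1 ((a : MulAut R)⁻¹ r))
          rw [MulAut.apply_inv_self] at h3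
          have e1 : (((a : MulAut R)⁻¹ r)⁻¹ * r)⁻¹ = r⁻¹ * ((a⁻¹ : A) : MulAut R) r := by
            show _ = r⁻¹ * (a : MulAut R)⁻¹ r
            group
          rwa [e1] at h3
        · show _ = (a : MulAut R)⁻¹ d
          apply (a : MulAut R).injective
          rw [MulAut.apply_inv_self, ← ha2, MulAut.apply_inv_self] }
  have hKn : K.Normal := by
    constructor
    rintro a ⟨ha1, τ, hτ, ha2⟩ g
    have hg : ∀ d ∈ D, (g : MulAut R) d ∈ D := hinv g g.2
    have hg' : ∀ d ∈ D, (g : MulAut R)⁻¹ d ∈ D := hinv _ (A.inv_mem g.2)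
    refine ⟨fun r => ?_, resAut D g hg hg' * τ * (resAut D g hg hg')⁻¹,
      hTn.conj_mem τ hτ _, fun d => ?_⟩
    · have h3 := hg _ (ha1 ((g : MulAut R)⁻¹ r))
      rw [map_mul, map_inv, MulAut.apply_inv_self] at h3
      exact h3
    · show (g : MulAut R) ((τ ((resAut D g hg hg')⁻¹ d) : D) : R) =
        (g : MulAut R) ((a : MulAut R) ((g : MulAut R)⁻¹ d))
      rw [ha2, resAut_inv_apply]
  have hKp : IsPGroup p K := by
    obtain ⟨e, he⟩ := IsPGroup.iff_card.1 hR
    rintro ⟨⟨β, hβA⟩, hβ1, τ, hτ, hβ2⟩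
    obtain ⟨k, hk⟩ := hT ⟨τ, hτ⟩
    have hk' : τ ^ p ^ k = 1 := by
      have := congrArg Subtype.val hk
      simpa using this
    have hpow : ∀ (t : ℕ) (d : D), (((τ ^ t) d : D) : R) = (β ^ t) d := by
      intro t
      induction t with
      | zero => intro d; simp
      | succ t ih =>
        intro d
        rw [pow_succ', pow_succ', MulAut.mul_apply, MulAut.mul_apply, hβ2, ih]
    have hfix : ∀ d ∈ D, (β ^ p ^ k) d = d := by
      intro d hd
      have := hpow (p ^ k) ⟨d, hd⟩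
      rw [hk'] at this
      exact this.symm
    have hmem : ∀ (t : ℕ) (r : R), r⁻¹ * (β ^ t) r ∈ D := by
      intro t
      induction t with
      | zero => intro r; simp
      | succ t ih =>
        intro r
        have e1 : r⁻¹ * (β ^ (t + 1)) r = (r⁻¹ * β r) * β (r⁻¹ * (β ^ t) r) := by
          rw [pow_succ', MulAut.mul_apply, map_mul, map_inv]; group
        rw [e1]
        exact D.mul_mem (hβ1 r) (hinv β hβA _ (ih r))
    refine ⟨k + e, ?_⟩
    ext1
    ext1
    show β ^ p ^ (k + e) = 1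
    ext1 r
    have h3 := aut_pow_apply_of_fixed (β ^ p ^ k) r (r⁻¹ * (β ^ p ^ k) r) (by group)
      (hfix _ (hmem _ r)) (p ^ e)
    rw [← he, pow_card_eq_one', mul_one, he, ← pow_mul, ← pow_add] at h3
    exact h3
  exact ⟨⟨α, hα⟩, le_pCore hKn hKp ⟨h1, h2⟩, rfl⟩

end Cfsg.Agent.Lib.Helper64
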