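import Mathlib
import Cfsg.Agent.Lib.Helper64.FratAut
import Cfsg.Agent.Lib.Helper64.StabRes
import Cfsg.Agent.S5185

set_option autoImplicit false

/-! If `A ≤ Aut(P)` (`P` a finite `p`-group) leaves invariant a chain from `P` down into `Φ(P)` whose
factors have order at most `p`, then `A` has a normal Sylow `p`-subgroup.  Hence essential subgroups of
saturated fusion systems have no such chain (helper64). -/

namespace Cfsg.Agent.Lib.Helper64

open Subgroup

variable {P : Type*} [Group P]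

/-- a `p`-element of `Aut(P)` leaving invariant a subgroup `V` of index `p` acts trivially on the cosets. -/
theorem inv_mul_apply_mem_of_index_prime [Finite P] {p : ℕ} [hp : Fact p.Prime] (V : Subgroup P)
    (hV : V.index = p) (α : MulAut P) (n : ℕ) (hα : α ^ p ^ n = 1) (hinv : ∀ v ∈ V, α v ∈ V) (y : P) :
    y⁻¹ * α y ∈ V := by
  have hfo : IsOfFinOrder α := isOfFinOrder_iff_pow_eq_one.2 ⟨p ^ n, pow_pos hp.out.pos n, hα⟩
  have hpw : ∀ t : ℕ, ∀ v ∈ V, (α ^ t) v ∈ V := by
    intro t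
    induction t with
    | zero => intro v hv; simpa using hv
    | succ t ih =>
      intro v hv
      rw [pow_succ', MulAut.mul_apply]
      exact hinv _ (ih v hv)
  have hall : ∀ b ∈ zpowers α, ∀ v ∈ V, b v ∈ V := by
    intro b hb v hv
    obtain ⟨t, rfl⟩ := (hfo.mem_powers_iff_mem_zpowers).2 hb
    exact hpw t v hv
  have hG : IsPGroup p (zpowers α) := by
    rintro ⟨b, hb⟩
    obtain ⟨t, rfl⟩ := (hfo.mem_powers_iff_mem_zpowers).2 hb
    refine ⟨n, ?_⟩
    ext1
    show (α ^ t) ^ p ^ n = 1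
    rw [← pow_mul, mul_comm, pow_mul, hα, one_pow]
  have : MulAction.QuotientAction (zpowers α) V := by
    constructor
    intro b a a' h
    have h1 := hall b.1 b.2 _ h
    rw [map_mul, map_inv] at h1
    exact h1
  have hcard : Nat.card (P ⧸ V) = p := hV
  have hmod := hG.card_modEq_card_fixedPoints (P ⧸ V)
  rw [hcard] at hmod
  have hone : ((1 : P) : P ⧸ V) ∈ MulAction.fixedPoints (zpowers α) (P ⧸ V) := by
    intro b
    show (((b : MulAut P) 1 : P) : P ⧸ V) = _
    rw [map_one]
  have hpos : 0 < Nat.card (MulAction.fixedPoints (zpowers α) (P ⧸ V)) := by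
    have : Nonempty (MulAction.fixedPoints (zpowers α) (P ⧸ V)) := ⟨⟨_, hone⟩⟩
    exact Nat.card_pos
  have hdvd : p ∣ Nat.card (MulAction.fixedPoints (zpowers α) (P ⧸ V)) := by
    have := hmod.symm
    exact (Nat.modEq_zero_iff_dvd.1 (this.trans (by simp [Nat.ModEq])))
  have hle : Nat.card (MulAction.fixedPoints (zpowers α) (P ⧸ V)) ≤ p := by
    rw [← hcard]
    exact Nat.card_le_card_of_injective _ Subtype.val_injective
  have heq : Nat.card (MulAction.fixedPoints (zpowers α) (P ⧸ V)) = Nat.card (P ⧸ V) := by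
    rw [hcard]
    exact le_antisymm hle (Nat.le_of_dvd hpos hdvd)
  have huniv : MulAction.fixedPoints (zpowers α) (P ⧸ V) = Set.univ := by
    rw [Set.eq_univ_iff_ncard, ← Nat.card_coe_set_eq]
    exact heq
  have hy : ((y : P) : P ⧸ V) ∈ MulAction.fixedPoints (zpowers α) (P ⧸ V) := by
    rw [huniv]; trivial
  have h2 := hy ⟨α, mem_zpowers α⟩
  have h3 : ((α y : P) : P ⧸ V) = (y : P ⧸ V) := h2
  exact QuotientGroup.eq.1 h3.symm

theorem pow_apply_mem_of_invariant (U : Subgroup P) (α : MulAut P) (hU : ∀ u ∈ U, α u ∈ U) (t : ℕ) :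
    ∀ u ∈ U, (α ^ t) u ∈ U := by
  induction t with
  | zero => intro v hv; simpa using hv
  | succ t ih =>
    intro v hv
    rw [pow_succ', MulAut.mul_apply]
    exact hU _ (ih v hv)

/-- relative version: a `p`-element of `Aut(P)` acts trivially on an invariant section of order `p`. -/
theorem inv_mul_apply_mem_of_relIndex_prime [Finite P] {p : ℕ} [hp : Fact p.Prime] (U V : Subgroup P)
    (hV : V.relIndex U = p) (α : MulAut P) (n : ℕ) (hα : α ^ p ^ n = 1)
    (hU : ∀ u ∈ U, α u ∈ U) (hinv : ∀ v ∈ V, α v ∈ V) (y : P) (hy : y ∈ U) :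
    y⁻¹ * α y ∈ V := by
  have hinv' : α⁻¹ = α ^ (p ^ n - 1) := by
    rw [inv_eq_iff_mul_eq_one, ← pow_succ', Nat.sub_add_cancel (Nat.one_le_pow _ _ hp.out.pos), hα]
  have hU' : ∀ u ∈ U, α⁻¹ u ∈ U := by
    rw [hinv']
    exact pow_apply_mem_of_invariant U α hU _
  have hpow : ∀ (t : ℕ) (d : U), ((((resAut U α hU hU') ^ t) d : U) : P) = (α ^ t) d := by
    intro t
    induction t with
    | zero => intro d; simp
    | succ t ih =>
      intro d
      rw [pow_succ', pow_succ', MulAut.mul_apply, MulAut.mul_apply, resAut_apply, ih]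
  have h1 : (resAut U α hU hU') ^ p ^ n = 1 := by
    ext d
    rw [hpow, hα]
    rfl
  have h2 := inv_mul_apply_mem_of_index_prime (V.subgroupOf U) hV (resAut U α hU hU') n h1
    (fun v hv => by
      rw [mem_subgroupOf] at hv ⊢
      rw [resAut_apply]
      exact hinv _ hv) ⟨y, hy⟩
  rw [mem_subgroupOf] at h2
  exact h2

/-- modulo a normal invariant subgroup: `γ y = y c`, `γ c ≡ c` gives `γ^t y ≡ y c^t`. -/
theorem inv_mul_pow_apply_mem (N : Subgroup P) [N.Normal] (γ : MulAut P) (hN : ∀ v ∈ N, γ v ∈ N)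
    (y c : P) (hc : γ y = y * c) (hcN : c⁻¹ * γ c ∈ N) (t : ℕ) :
    (y * c ^ t)⁻¹ * (γ ^ t) y ∈ N := by
  have hπ : ∀ a b : P, (a : P ⧸ N) = b → ((γ a : P) : P ⧸ N) = (γ b : P) := by
    intro a b hab
    rw [QuotientGroup.eq] at hab ⊢
    have := hN _ hab
    rwa [map_mul, map_inv] at this
  have hcN' : ((γ c : P) : P ⧸ N) = (c : P) := (QuotientGroup.eq.2 hcN).symm
  have key : (((γ ^ t) y : P) : P ⧸ N) = ((y * c ^ t : P) : P ⧸ N) := by
    induction t with
    | zero => simp
    | succ t ih =>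
      rw [pow_succ', MulAut.mul_apply, hπ _ _ ih, map_mul, map_pow, hc]
      rw [QuotientGroup.mk_mul, QuotientGroup.mk_pow, hcN', QuotientGroup.mk_mul, QuotientGroup.mk_mul,
        QuotientGroup.mk_pow, pow_succ', mul_assoc]
  exact QuotientGroup.eq.1 key.symm

/-- **Chain criterion.** -/
theorem sylow_normal_of_chain [Finite P] {p : ℕ} [hp : Fact p.Prime] (hP : IsPGroup p P)
    (A : Subgroup (MulAut P)) (D : ℕ → Subgroup P) (m : ℕ) (h0 : D 0 = ⊤) (hm : D m ≤ frattini P)
    (hinv : ∀ j, ∀ α ∈ A, ∀ y ∈ D j, α y ∈ D j)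
    (hidx : ∀ j < m, (D (j + 1)).relIndex (D j) ∣ p)
    (Q : Sylow p A) : (Q : Subgroup A).Normal := by
  let K : Subgroup A :=
    { carrier := {β | ∀ j < m, ∀ y ∈ D j, y⁻¹ * (β : MulAut P) y ∈ D (j + 1)}
      one_mem' := by
        intro j _ y _
        simp
      mul_mem' := by
        intro a b ha hb j hj y hy
        have h1 := ha j hj y hy
        have h2 := hinv (j + 1) a a.2 _ (hb j hj y hy)
        have : y⁻¹ * ((a * b : A) : MulAut P) y
            = (y⁻¹ * (a : MulAut P) y) * (a : MulAut P) (y⁻¹ * (b : MulAut P) y) := by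
          rw [map_mul, map_inv]
          show y⁻¹ * (a : MulAut P) ((b : MulAut P) y) = _
          group
        rw [this]
        exact Subgroup.mul_mem _ h1 h2
      inv_mem' := by
        intro a ha j hj y hy
        have hw : ((a⁻¹ : A) : MulAut P) y ∈ D j := hinv j _ (a⁻¹).2 y hy
        have h1 := ha j hj _ hw
        have h2 : (a : MulAut P) (((a⁻¹ : A) : MulAut P) y) = y := by
          show ((a : MulAut P) * ((a⁻¹ : A) : MulAut P)) y = y
          simp
        rw [h2] at h1
        have := Subgroup.inv_mem _ h1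
        simpa using this }
  have hKmem : ∀ β : A, β ∈ K ↔ ∀ j < m, ∀ y ∈ D j, y⁻¹ * (β : MulAut P) y ∈ D (j + 1) :=
    fun β => Iff.rfl
  have hKn : K.Normal := by
    constructor
    intro a ha g j hj y hy
    have hw : ((g⁻¹ : A) : MulAut P) y ∈ D j := hinv j _ (g⁻¹).2 y hy
    have h1 := hinv (j + 1) g g.2 _ (ha j hj _ hw)
    have h2 : (g : MulAut P) (((g⁻¹ : A) : MulAut P) y) = y := by
      show ((g : MulAut P) * ((g⁻¹ : A) : MulAut P)) y = y
      simp
    rw [map_mul, map_inv, h2] at h1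
    exact h1
  have hΦ : ∀ (γ : MulAut P), ∀ v ∈ frattini P, γ v ∈ frattini P :=
    fun γ v hv => (map_mem_frattini_iff γ).2 hv
  have hclaim : ∀ k : ℕ, ∀ j, j + k = m → ∀ β ∈ K, ∀ y ∈ D j,
      y⁻¹ * ((β : MulAut P) ^ (Nat.card P ^ k)) y ∈ frattini P := by
    intro k
    induction k with
    | zero =>
      intro j hj β _ y hy
      have hjm : j = m := by omega
      subst hjm
      exact (frattini P).mul_mem ((frattini P).inv_mem (hm hy)) (hΦ _ _ (hm hy))
    | succ k ih =>
      intro j hj β hβ y hy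
      have hγK : β ^ (Nat.card P ^ k) ∈ K := K.pow_mem hβ _
      have hc := hγK j (by omega) y hy
      have hc' : y⁻¹ * ((β : MulAut P) ^ (Nat.card P ^ k)) y ∈ D (j + 1) := hc
      have h1 := ih (j + 1) (by omega) β hβ _ hc'
      have h2 := inv_mul_pow_apply_mem (frattini P) ((β : MulAut P) ^ (Nat.card P ^ k)) (hΦ _) y
        (y⁻¹ * ((β : MulAut P) ^ (Nat.card P ^ k)) y) (by group) h1 (Nat.card P)
      rw [pow_card_eq_one', mul_one, ← pow_mul, ← pow_succ] at h2
      exact h2
  have hKp : IsPGroup p K := by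
    obtain ⟨a, ha⟩ := IsPGroup.iff_card.1 hP
    rintro ⟨β, hβ⟩
    have h1 : (β : MulAut P) ^ (Nat.card P ^ m) ∈ frattiniKer P := by
      rw [mem_frattiniKer]
      intro x
      have h2 := hclaim m 0 (by simp) β hβ x (by rw [h0]; trivial)
      have h3 := (inferInstance : (frattini P).Normal).conj_mem _ h2 x
      have e : x * (x⁻¹ * ((β : MulAut P) ^ (Nat.card P ^ m)) x) * x⁻¹
          = ((β : MulAut P) ^ (Nat.card P ^ m)) x * x⁻¹ := by group
      rwa [e] at h3
    obtain ⟨e, he⟩ := isPGroup_frattiniKer hP ⟨_, h1⟩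
    have he' : ((β : MulAut P) ^ (Nat.card P ^ m)) ^ p ^ e = 1 := by
      have := congrArg Subtype.val he
      simpa using this
    refine ⟨a * m + e, ?_⟩
    ext1
    ext1
    show (β : MulAut P) ^ p ^ (a * m + e) = 1
    rw [pow_add, pow_mul, pow_mul, ← ha]
    exact he'
  have hQK : (Q : Subgroup A) ≤ K := by
    intro q hq
    obtain ⟨n, hn⟩ := Q.2 ⟨q, hq⟩
    have hn' : (q : MulAut P) ^ p ^ n = 1 := by
      have := congrArg Subtype.val (congrArg Subtype.val hn)
      simpa using this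
    rw [hKmem]
    intro j hj y hy
    rcases (Nat.dvd_prime hp.out).1 (hidx j hj) with h1 | h1
    · rw [relIndex_eq_one] at h1
      exact h1 ((D j).mul_mem ((D j).inv_mem hy) (hinv j q q.2 y hy))
    · exact inv_mul_apply_mem_of_relIndex_prime (D j) (D (j + 1)) h1 q n hn' (hinv j q q.2)
        (hinv (j + 1) q q.2) y hy
  have hEq : K = (Q : Subgroup A) := Q.is_maximal' hKp hQK
  rw [← hEq]
  exact hKn

/-- an essential subgroup: `Aut_F(H)` has no normal Sylow `p`-subgroup. -/
theorem not_normal_sylow_of_essential {Ω : Type*} [Group Ω] {S : Subgroup Ω} (p : ℕ) [Fact p.Prime]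
    (F : Cfsg.FusionSystem S) (H : Subgroup Ω) [Finite H] (hH : F.IsEssential p H)
    (Q : Sylow p (F.autGroup H)) : ¬ (Q : Subgroup (F.autGroup H)).Normal := by
  intro hn
  obtain ⟨_, _, hN, E, hE⟩ := hH
  have hfinAut : Finite (MulAut H) :=
    Finite.of_injective (fun e : MulAut H => (e : H → H)) DFunLike.coe_injective
  have hsurj := QuotientGroup.mk'_surjective ((Cfsg.Inn H).subgroupOf (F.autGroup H))
  apply Cfsg.Agent.S5185.not_normal_of_stronglyPEmbedded p E hE (Q.mapSurjective hsurj)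
  rw [Sylow.coe_mapSurjective]
  exact hn.map _ hsurj

/-- essential subgroups admit no invariant chain with factors of order at most `p` down into `Φ`. -/
theorem essential_no_chain {Ω : Type*} [Group Ω] {S : Subgroup Ω} (p : ℕ) [Fact p.Prime]
    (F : Cfsg.FusionSystem S) (H : Subgroup Ω) [Finite H] (hH : F.IsEssential p H)
    (hP : IsPGroup p H) (D : ℕ → Subgroup H) (m : ℕ) (h0 : D 0 = ⊤) (hm : D m ≤ frattini H)
    (hinv : ∀ j, ∀ α : MulAut H, ∀ y ∈ D j, α y ∈ D j)
    (hidx : ∀ j < m, (D (j + 1)).relIndex (D j) ∣ p) : False := by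
  obtain ⟨Q⟩ : Nonempty (Sylow p (F.autGroup H)) := Sylow.nonempty
  exact not_normal_sylow_of_essential p F H hH Q
    (sylow_normal_of_chain hP (F.autGroup H) D m h0 hm (fun j α _ => hinv j α) hidx Q)

end Cfsg.Agent.Lib.Helper64
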