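import Mathlib
import Cfsg.Agent.Lib.Helper64.MetaOmega
import Cfsg.Agent.Lib.Helper5.Quaternion

set_option autoImplicit false

/-! A finite group that is the product of two normal cyclic subgroups `⟨a⟩`, `⟨c⟩` of order `2^m`
and contains an element `a^r c^s` (`r`, `s` odd) of order `2^m` is `Q8` or homocyclic (helper64). -/

namespace Cfsg.Agent.Lib.Helper64

open Subgroup

variable {X : Type*} [Group X]

theorem eq_pow_half [Finite X] {a x : X} {m : ℕ} (ha : orderOf a = 2 ^ (m + 1))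
    (hx : x ∈ zpowers a) (h1 : x ≠ 1) (h2 : x ^ 2 = 1) : x = a ^ (2 ^ m) := by
  obtain ⟨i, rfl⟩ := exists_pow_of_mem_zpowers hx
  rw [← pow_mul, ← orderOf_dvd_iff_pow_eq_one, ha, pow_succ] at h2
  have h3 : 2 ^ m ∣ i := Nat.dvd_of_mul_dvd_mul_right (by norm_num) h2
  obtain ⟨q, rfl⟩ := h3
  have hq : ¬ 2 ∣ q := by
    rintro ⟨q', rfl⟩
    apply h1
    rw [← orderOf_dvd_iff_pow_eq_one, ha, pow_succ]
    exact ⟨q', by ring⟩
  have hq' : q % 2 = 1 := by omega
  have h4 : (a ^ 2 ^ m) ^ 2 = 1 := by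
    rw [← pow_mul, ← pow_succ, ← ha, pow_orderOf_eq_one]
  rw [pow_mul]
  conv_lhs => rw [← Nat.div_add_mod q 2, hq', pow_add, pow_mul, h4, one_pow, one_mul, pow_one]

theorem pow_odd_of_sq_eq_one {y : X} (hy : y ^ 2 = 1) {r : ℕ} (hr : Odd r) : y ^ r = y := by
  obtain ⟨q, rfl⟩ := hr
  rw [pow_add, pow_mul, hy, one_pow, one_mul, pow_one]

theorem pow_mul_pow_of_comm_central {g h w : X} (hc : h * g = w * (g * h)) (hwg : Commute w g)
    (hwh : Commute w h) (r s : ℕ) : h ^ s * g ^ r = w ^ (r * s) * (g ^ r * h ^ s) := by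
  have h1 : ∀ r : ℕ, h * g ^ r = w ^ r * (g ^ r * h) := by
    intro r
    induction r with
    | zero => simp
    | succ r ih =>
      calc h * g ^ (r + 1) = (h * g ^ r) * g := by rw [pow_succ, mul_assoc]
        _ = w ^ r * (g ^ r * (h * g)) := by rw [ih]; simp only [mul_assoc]
        _ = w ^ r * (g ^ r * (w * (g * h))) := by rw [hc]
        _ = w ^ r * ((g ^ r * w) * (g * h)) := by simp only [mul_assoc]
        _ = w ^ r * ((w * g ^ r) * (g * h)) := by rw [(hwg.pow_right r).eq]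
        _ = w ^ (r + 1) * (g ^ (r + 1) * h) := by
            rw [pow_succ, pow_succ]; simp only [mul_assoc]
  induction s with
  | zero => simp
  | succ s ih =>
    calc h ^ (s + 1) * g ^ r = h * (h ^ s * g ^ r) := by rw [pow_succ', mul_assoc]
      _ = h * (w ^ (r * s) * (g ^ r * h ^ s)) := by rw [ih]
      _ = w ^ (r * s) * ((h * g ^ r) * h ^ s) := by
          rw [← mul_assoc, ← ((hwh.pow_left (r * s)).eq)]; simp only [mul_assoc]
      _ = w ^ (r * s) * ((w ^ r * (g ^ r * h)) * h ^ s) := by rw [h1]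
      _ = w ^ (r * (s + 1)) * (g ^ r * h ^ (s + 1)) := by
          rw [Nat.mul_succ, pow_add, pow_succ' h]; simp only [mul_assoc]

theorem nonempty_zmod_mulEquiv_zpowers (a : X) (N : ℕ) (ha : orderOf a = N) :
    Nonempty (Multiplicative (ZMod N) ≃* zpowers a) := by
  subst ha
  have h : Nat.card (zpowers a) = orderOf a := Nat.card_zpowers a
  rw [← h]
  exact ⟨zmodCyclicMulEquiv inferInstance⟩

theorem nonempty_mulEquiv_prod_of_disjoint {a c : X} {N : ℕ} (ha : orderOf a = N)
    (hc : orderOf c = N) (hcomm : Commute a c) (hI : zpowers a ⊓ zpowers c = ⊥)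
    (hgen : ∀ x : X, ∃ i j : ℕ, x = a ^ i * c ^ j) :
    Nonempty (X ≃* Multiplicative (ZMod N) × Multiplicative (ZMod N)) := by
  obtain ⟨e1⟩ := nonempty_zmod_mulEquiv_zpowers a N ha
  obtain ⟨e2⟩ := nonempty_zmod_mulEquiv_zpowers c N hc
  have hcm : ∀ (x : zpowers a) (y : zpowers c),
      Commute ((zpowers a).subtype x) ((zpowers c).subtype y) := by
    rintro ⟨x, hx⟩ ⟨y, hy⟩
    obtain ⟨i, rfl⟩ := mem_zpowers_iff.1 hx
    obtain ⟨j, rfl⟩ := mem_zpowers_iff.1 hy
    exact (hcomm.zpow_left i).zpow_right j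
  let f : zpowers a × zpowers c →* X :=
    (zpowers a).subtype.noncommCoprod (zpowers c).subtype hcm
  have hf : Function.Bijective f := by
    constructor
    · rw [injective_iff_map_eq_one]
      rintro ⟨⟨x, hx⟩, ⟨y, hy⟩⟩ h
      have h' : x * y = 1 := h
      have hxy : x = y⁻¹ := eq_inv_of_mul_eq_one_left h'
      have hx1 : x ∈ zpowers a ⊓ zpowers c := ⟨hx, hxy ▸ (zpowers c).inv_mem hy⟩
      rw [hI, mem_bot] at hx1
      subst hx1
      have hy1 : y = 1 := by simpa using h'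
      subst hy1
      rfl
    · intro x
      obtain ⟨i, j, rfl⟩ := hgen x
      exact ⟨(⟨a ^ i, Subgroup.pow_mem _ (mem_zpowers a) i⟩,
        ⟨c ^ j, Subgroup.pow_mem _ (mem_zpowers c) j⟩), rfl⟩
  exact ⟨((MulEquiv.prodCongr e1 e2).trans (MulEquiv.ofBijective f hf)).symm⟩


/-- **Two normal cyclic subgroups.** -/
theorem q8_or_homocyclic [Finite X] {a c : X} {m r s : ℕ} (ha : orderOf a = 2 ^ m)
    (hc : orderOf c = 2 ^ m) (hd : orderOf (a ^ r * c ^ s) = 2 ^ m) (hr : Odd r) (hs : Odd s)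
    (hna : (zpowers a).Normal) (hnc : (zpowers c).Normal)
    (hgen : ∀ x : X, ∃ i j : ℕ, x = a ^ i * c ^ j) :
    Nonempty (X ≃* QuaternionGroup 2) ∨
      Nonempty (X ≃* Multiplicative (ZMod (2 ^ m)) × Multiplicative (ZMod (2 ^ m))) := by
  obtain ⟨w, hw⟩ : ∃ w : X, w = c * a * c⁻¹ * a⁻¹ := ⟨_, rfl⟩
  have hwa : w ∈ zpowers a := by
    rw [hw]
    exact (zpowers a).mul_mem (hna.conj_mem a (mem_zpowers a) c) ((zpowers a).inv_mem (mem_zpowers a))
  have hwc : w ∈ zpowers c := by
    rw [hw, mul_assoc, mul_assoc]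
    refine (zpowers c).mul_mem (mem_zpowers c) ?_
    rw [← mul_assoc]
    exact hnc.conj_mem c⁻¹ ((zpowers c).inv_mem (mem_zpowers c)) a
  have hcw : c * a = w * (a * c) := by rw [hw]; group
  have hwga : Commute w a := by
    obtain ⟨i, hi⟩ := mem_zpowers_iff.1 hwa
    rw [← hi]
    exact (Commute.refl a).zpow_left i
  have hwgc : Commute w c := by
    obtain ⟨i, hi⟩ := mem_zpowers_iff.1 hwc
    rw [← hi]
    exact (Commute.refl c).zpow_left i
  by_cases hI : zpowers a ⊓ zpowers c = ⊥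
  · right
    have hw1 : w = 1 := by
      have : w ∈ zpowers a ⊓ zpowers c := ⟨hwa, hwc⟩
      rwa [hI, mem_bot] at this
    have hcomm : Commute a c := by
      rw [hw1, one_mul] at hcw
      exact hcw.symm
    exact nonempty_mulEquiv_prod_of_disjoint ha hc hcomm hI hgen
  · left
    -- an involution in the intersection
    obtain ⟨y0, hy0, hy01⟩ : ∃ y : X, y ∈ zpowers a ⊓ zpowers c ∧ y ≠ 1 := by
      obtain ⟨y, hy⟩ := Subgroup.ne_bot_iff_exists_ne_one.1 hI
      exact ⟨y, y.2, fun h' => hy (Subtype.ext h')⟩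
    obtain ⟨e, -, he⟩ := (Nat.dvd_prime_pow Nat.prime_two).1
      (ha ▸ orderOf_dvd_of_mem_zpowers hy0.1)
    obtain ⟨e, rfl⟩ : ∃ e', e = e' + 1 := by
      rcases e with _ | e
      · exfalso
        apply hy01
        rwa [pow_zero, orderOf_eq_one_iff] at he
      · exact ⟨e, rfl⟩
    obtain ⟨y, hy⟩ : ∃ y : X, y = y0 ^ 2 ^ e := ⟨_, rfl⟩
    have hyI : y ∈ zpowers a ⊓ zpowers c := hy ▸ Subgroup.pow_mem _ hy0 _
    have hy1 : y ≠ 1 := by
      rw [hy]
      apply pow_ne_one_of_lt_orderOf (by positivity)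
      rw [he]
      exact Nat.pow_lt_pow_right (by norm_num) (by omega)
    have hy2 : y ^ 2 = 1 := by
      rw [hy, ← pow_mul, ← pow_succ, ← he, pow_orderOf_eq_one]
    obtain ⟨M, rfl⟩ : ∃ M, m = M + 1 := by
      rcases m with _ | M
      · exfalso
        rw [pow_zero, orderOf_eq_one_iff] at ha
        apply hy1
        have h0 : y ∈ zpowers a := hyI.1
        rwa [ha, zpowers_one_eq_bot, mem_bot] at h0
      · exact ⟨M, rfl⟩
    have hya : y = a ^ 2 ^ M := eq_pow_half ha hyI.1 hy1 hy2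
    have hyc : y = c ^ 2 ^ M := eq_pow_half hc hyI.2 hy1 hy2
    obtain ⟨l, hl⟩ := exists_pow_of_mem_zpowers hwa
    -- `w ^ l = 1`
    have hwl : w ^ l = 1 := by
      have h1 := pow_mul_pow_of_comm_central hcw hwga hwgc l 1
      rw [pow_one, mul_one, ← hl, hwgc.eq.symm] at h1
      exact (mul_eq_right.1 h1.symm)
    have hll : 2 ^ (M + 1) ∣ l * l := by
      rw [← ha, orderOf_dvd_iff_pow_eq_one, pow_mul, ← hl]
      exact hwl
    -- the power of `d`
    have hdp : (a ^ r * c ^ s) ^ 2 ^ M = (w ^ (r * s)) ^ ((2 ^ M).choose 2) := by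
      rw [mul_pow_of_comm_central (pow_mul_pow_of_comm_central hcw hwga hwgc r s)
        ((hwga.pow_left _).pow_right _) ((hwgc.pow_left _).pow_right _), pow_right_comm a,
        pow_right_comm c, ← hya, ← hyc, pow_odd_of_sq_eq_one hy2 hr,
        pow_odd_of_sq_eq_one hy2 hs, ← sq, hy2, mul_one]
    have hdne : (a ^ r * c ^ s) ^ 2 ^ M ≠ 1 := by
      apply pow_ne_one_of_lt_orderOf (by positivity)
      rw [hd]
      exact Nat.pow_lt_pow_right (by norm_num) (by omega)
    have hnd : ¬ 2 ^ (M + 1) ∣ l * (r * s * (2 ^ M).choose 2) := by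
      intro h
      apply hdne
      rw [hdp, hl, ← pow_mul, ← pow_mul,
        ← orderOf_dvd_iff_pow_eq_one, ha]
      exact h
    obtain ⟨M', rfl⟩ : ∃ M', M = M' + 1 := by
      rcases M with _ | M
      · exfalso
        apply hnd
        simp
      · exact ⟨M, rfl⟩
    have hch : (2 ^ (M' + 1)).choose 2 = 2 ^ M' * (2 ^ (M' + 1) - 1) := by
      rw [Nat.choose_two_right, pow_succ, mul_comm (2 ^ M') 2, mul_assoc, Nat.mul_div_cancel_left _
        (by norm_num)]
    have h4 : ¬ 4 ∣ l := by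
      rintro ⟨q, rfl⟩
      apply hnd
      rw [hch]
      exact ⟨q * (r * s * (2 ^ (M' + 1) - 1)), by ring⟩
    have hM' : M' = 0 := by
      by_contra hne
      obtain ⟨M'', rfl⟩ : ∃ M'', M' = M'' + 1 := ⟨M' - 1, by omega⟩
      have h8 : 8 ∣ l * l := by
        refine dvd_trans ⟨2 ^ M'', by ring⟩ hll
      apply h4
      have h8' : (l * l) % 8 = 0 := Nat.mod_eq_zero_of_dvd h8
      rw [Nat.mul_mod] at h8'
      have hlt : l % 8 < 8 := Nat.mod_lt _ (by norm_num)
      have : l % 8 = 0 ∨ l % 8 = 4 := by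
        generalize l % 8 = u at h8' hlt
        interval_cases u <;> first | omega | (exfalso; revert h8'; decide)
      omega
    subst hM'
    norm_num at ha hc hll hya hyc
    have hl2 : l % 4 = 2 := by
      have h4' : (l * l) % 4 = 0 := Nat.mod_eq_zero_of_dvd hll
      rw [Nat.mul_mod] at h4'
      have hlt : l % 4 < 4 := Nat.mod_lt _ (by norm_num)
      have h40 : l % 4 ≠ 0 := fun h => h4 (Nat.dvd_of_mod_eq_zero h)
      generalize l % 4 = u at h4' hlt h40
      interval_cases u <;> first | omega | (exfalso; revert h4'; decide)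
    have hwa2 : w = a ^ 2 := by
      rw [hl, ← pow_mod_orderOf, ha, hl2]
    have ha4 : a ^ 4 = 1 := by rw [← ha, pow_orderOf_eq_one]
    have hainv : a⁻¹ = a ^ 3 := by
      rw [inv_eq_iff_mul_eq_one, ← pow_succ', ha4]
    have hcnot : c ∉ zpowers a := by
      intro h
      obtain ⟨i, hi⟩ := mem_zpowers_iff.1 h
      have hcm : Commute c a := by
        rw [← hi]; exact (Commute.refl a).zpow_left i
      have : w = 1 := by
        rw [hw, hcm.eq]; group
      apply hy1
      rw [hya, ← hwa2, this]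
    have hconj : c⁻¹ * a * c = a⁻¹ := by
      have h1 : c * a * c⁻¹ = a⁻¹ := by
        have : c * a * c⁻¹ = w * a := by rw [hw]; group
        rw [this, hwa2, ← pow_succ, hainv]
      have h2 : a = c⁻¹ * a⁻¹ * c := by rw [← h1]; group
      calc c⁻¹ * a * c = (c⁻¹ * a⁻¹ * c)⁻¹ := by group
        _ = a⁻¹ := by rw [← h2]
    have hc2 : c ^ 2 = a ^ 2 := by rw [← hyc, hya]
    have hidx : (zpowers a).index = 2 := by
      rw [Subgroup.index_eq_two_iff]
      refine ⟨c, fun x => ?_⟩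
      obtain ⟨i, j, rfl⟩ := hgen x
      have hai : a ^ i ∈ zpowers a := Subgroup.pow_mem _ (mem_zpowers a) i
      have hev : ∀ q : ℕ, c ^ (2 * q) ∈ zpowers a := by
        intro q
        rw [pow_mul, hc2]
        exact Subgroup.pow_mem _ (Subgroup.pow_mem _ (mem_zpowers a) _) _
      have hodd : ∀ q : ℕ, c ^ (2 * q + 1) ∉ zpowers a := by
        intro q h
        rw [pow_succ] at h
        exact hcnot (((zpowers a).mul_mem_cancel_left (hev q)).1 h)
      rcases Nat.even_or_odd' j with ⟨q, rfl | rfl⟩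
      · right
        refine ⟨(zpowers a).mul_mem hai (hev q), ?_⟩
        rw [mul_assoc, ← pow_succ, (zpowers a).mul_mem_cancel_left hai]
        exact hodd q
      · left
        refine ⟨?_, ?_⟩
        · rw [mul_assoc, ← pow_succ, (zpowers a).mul_mem_cancel_left hai]
          exact hev (q + 1)
        · rw [(zpowers a).mul_mem_cancel_left hai]
          exact hodd q
    have hcard : Nat.card X = 4 * 2 := by
      rw [← (zpowers a).card_mul_index, hidx, Nat.card_zpowers, ha]
    exact Cfsg.Agent.Lib.Helper5.nonempty_mulEquiv_quaternionGroup a c (by rw [ha]) hc2 hconj hcnot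
      hcard

end Cfsg.Agent.Lib.Helper64
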