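import Mathlib
import Cfsg.Agent.Lib.Helper64.EssChain
import Cfsg.Agent.Lib.Helper64.TwoCyc
import Cfsg.Agent.Lib.Helper46.OrderCube

set_option autoImplicit false

/-! Groups of order `p^3` without a characteristic chain with factors of order `p` (helper64). -/

namespace Cfsg.Agent.Lib.Helper64

open Subgroup
open scoped commutatorElement

/-- no characteristic chain from `P` into `Φ(P)` with factors of order at most `p`. -/
def NoChain (p : ℕ) (P : Type*) [Group P] : Prop :=
  ∀ (D : ℕ → Subgroup P) (m : ℕ), D 0 = ⊤ → D m ≤ frattini P →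
    (∀ j, ∀ α : MulAut P, ∀ y ∈ D j, α y ∈ D j) →
    (∀ j < m, (D (j + 1)).relIndex (D j) ∣ p) → False

theorem noChain_of_essential {Ω : Type*} [Group Ω] {S : Subgroup Ω} (p : ℕ) [Fact p.Prime]
    (F : Cfsg.FusionSystem S) (H : Subgroup Ω) [Finite H] (hH : F.IsEssential p H)
    (hP : IsPGroup p H) : NoChain p H :=
  fun D m h0 hm hinv hidx => essential_no_chain p F H hH hP D m h0 hm hinv hidx

variable {P : Type*} [Group P] {p : ℕ}

theorem relIndex_of_card [Finite P] {Z M : Subgroup P} (hZM : Z ≤ M) {a b : ℕ} (hZ : Nat.card Z = a)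
    (hM : Nat.card M = a * b) (ha : 0 < a) : Z.relIndex M = b := by
  have h := relIndex_mul_relIndex ⊥ Z M bot_le hZM
  rw [relIndex_bot_left, relIndex_bot_left, hZ, hM] at h
  exact Nat.eq_of_mul_eq_mul_left ha h

theorem NoChain.three [Finite P] (h : NoChain p P) (hp : 0 < p) (hcard : Nat.card P = p ^ 3)
    (M Z : Subgroup P) (hZM : Z ≤ M) (hM : Nat.card M = p ^ 2) (hZ : Nat.card Z = p)
    (hMi : ∀ α : MulAut P, ∀ y ∈ M, α y ∈ M) (hZi : ∀ α : MulAut P, ∀ y ∈ Z, α y ∈ Z) : False := by
  refine h (fun j => if j = 0 then ⊤ else if j = 1 then M else if j = 2 then Z else ⊥) 3 (by simp)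
    (by simp) ?_ ?_
  · intro j α y hy
    by_cases h0 : j = 0
    · simp [h0]
    by_cases h1 : j = 1
    · subst h1
      simp only [one_ne_zero, if_false, if_true] at hy ⊢
      exact hMi α y hy
    by_cases h2 : j = 2
    · subst h2
      simp only [OfNat.ofNat_ne_zero, OfNat.ofNat_ne_one, if_false, if_true] at hy ⊢
      exact hZi α y hy
    · simp only [h0, h1, h2, if_false, mem_bot] at hy ⊢
      rw [hy, map_one]
  · intro j hj
    interval_cases j
    · simp only [zero_add, one_ne_zero, if_false, if_true]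
      rw [relIndex_top_right]
      have := M.card_mul_index
      rw [hM, hcard] at this
      have h2 : M.index = p := Nat.eq_of_mul_eq_mul_left (pow_pos hp 2) (by rw [this]; ring)
      rw [h2]
    · simp only [one_ne_zero, if_false, if_true, Nat.reduceAdd, OfNat.ofNat_ne_zero,
        OfNat.ofNat_ne_one]
      rw [relIndex_of_card hZM hZ (by rw [hM]; ring) hp]
    · simp only [if_false, if_true, Nat.reduceAdd, OfNat.ofNat_ne_zero,
        OfNat.ofNat_ne_one, Nat.reduceEqDiff]
      rw [relIndex_bot_left, hZ]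

theorem map_mem_zpowers_pow {x : P} (α : MulAut P) (hx : α x ∈ zpowers x) (n : ℕ) :
    ∀ y ∈ zpowers (x ^ n), α y ∈ zpowers (x ^ n) := by
  intro y hy
  obtain ⟨i, rfl⟩ := mem_zpowers_iff.1 hy
  obtain ⟨k, hk⟩ := mem_zpowers_iff.1 hx
  rw [map_zpow, map_pow, ← hk]
  apply Subgroup.zpow_mem
  have : (x ^ k) ^ n = (x ^ n) ^ k := by
    rw [← zpow_natCast, ← zpow_natCast, ← zpow_mul, ← zpow_mul, mul_comm]
  rw [this]
  exact Subgroup.zpow_mem _ (mem_zpowers _) _

theorem orderOf_eq_of_pow_ne [hp : Fact p.Prime] {x : P} {n : ℕ} (h1 : x ^ p ^ (n + 1) = 1)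
    (h2 : x ^ p ^ n ≠ 1) : orderOf x = p ^ (n + 1) :=
  orderOf_eq_prime_pow h2 h1

/-- the power map of a group in which it is multiplicative. -/
def powHom (n : ℕ) (h : ∀ x y : P, (x * y) ^ n = x ^ n * y ^ n) : P →* P where
  toFun x := x ^ n
  map_one' := one_pow n
  map_mul' := h

theorem cube_of_powHom [Finite P] [hp : Fact p.Prime] (h : NoChain p P) (hcard : Nat.card P = p ^ 3)
    (hmul : ∀ x y : P, (x * y) ^ p = x ^ p * y ^ p) (Z : Subgroup P) (hZ : Nat.card Z = p)
    (hZi : ∀ α : MulAut P, ∀ y ∈ Z, α y ∈ Z) (hpZ : ∀ x : P, x ^ p ∈ Z) : ∀ x : P, x ^ p = 1 := by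
  by_contra hcon
  push Not at hcon
  obtain ⟨x0, hx0⟩ := hcon
  have hker : ∀ x, x ∈ (powHom p hmul).ker ↔ x ^ p = 1 := fun x => MonoidHom.mem_ker
  have hrange : (powHom p hmul).range = Z := by
    have hle : (powHom p hmul).range ≤ Z := by
      rintro _ ⟨x, rfl⟩
      exact hpZ x
    have hdvd := Subgroup.card_dvd_of_le hle
    rw [hZ] at hdvd
    rcases (Nat.dvd_prime hp.out).1 hdvd with h1 | h1
    · exfalso
      rw [Subgroup.card_eq_one] at h1
      have : x0 ^ p ∈ (powHom p hmul).range := ⟨x0, rfl⟩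
      rw [h1, mem_bot] at this
      exact hx0 this
    · exact Subgroup.eq_of_le_of_card_ge hle (by rw [h1, hZ])
  have hM : Nat.card (powHom p hmul).ker = p ^ 2 := by
    have h1 := (powHom p hmul).ker.card_mul_index
    rw [Subgroup.index_ker, hrange, hZ, hcard] at h1
    exact Nat.eq_of_mul_eq_mul_right hp.out.pos (by rw [h1]; ring)
  refine h.three hp.out.pos hcard (powHom p hmul).ker Z ?_ hM hZ ?_ hZi
  · intro z hz
    rw [hker]
    have := pow_card_eq_one' (G := Z) (x := ⟨z, hz⟩)
    rw [hZ] at this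
    exact congrArg Subtype.val this
  · intro α y hy
    rw [hker] at hy ⊢
    rw [← map_pow, hy, map_one]

theorem cube_abelian [Finite P] [hp : Fact p.Prime] (h : NoChain p P) (hcard : Nat.card P = p ^ 3)
    (hc : ∀ x y : P, x * y = y * x) : ∀ x : P, x ^ p = 1 := by
  have hall : ∀ x : P, x ^ p ^ 3 = 1 := fun x => hcard ▸ pow_card_eq_one'
  by_cases hcyc : ∃ x : P, x ^ p ^ 2 ≠ 1
  · exfalso
    obtain ⟨x, hx⟩ := hcyc
    have ho : orderOf x = p ^ 3 := orderOf_eq_prime_pow hx (hall x)
    have htop : zpowers x = ⊤ := by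
      apply Subgroup.eq_top_of_card_eq
      rw [Nat.card_zpowers, ho, hcard]
    have hα : ∀ α : MulAut P, α x ∈ zpowers x := fun α => by rw [htop]; trivial
    refine h.three hp.out.pos hcard (zpowers (x ^ p)) (zpowers (x ^ p ^ 2)) ?_ ?_ ?_
      (fun α => map_mem_zpowers_pow α (hα α) _) (fun α => map_mem_zpowers_pow α (hα α) _)
    · rw [zpowers_le, pow_two, pow_mul]
      exact Subgroup.pow_mem _ (mem_zpowers _) _
    · rw [Nat.card_zpowers, orderOf_pow_of_dvd hp.out.ne_zero (by rw [ho]; exact ⟨p ^ 2, by ring⟩), ho]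
      exact Nat.div_eq_of_eq_mul_left hp.out.pos (by ring)
    · rw [Nat.card_zpowers, orderOf_pow_of_dvd (pow_ne_zero _ hp.out.ne_zero)
        (by rw [ho]; exact ⟨p, by ring⟩), ho]
      exact Nat.div_eq_of_eq_mul_left (pow_pos hp.out.pos 2) (by ring)
  · push Not at hcyc
    have hmul : ∀ x y : P, (x * y) ^ p = x ^ p * y ^ p := fun x y => (show Commute x y from hc x y).mul_pow p
    by_contra hcon
    push Not at hcon
    obtain ⟨x0, hx0⟩ := hcon
    have hker : ∀ x, x ∈ (powHom p hmul).ker ↔ x ^ p = 1 := fun x => MonoidHom.mem_ker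
    have hle : (powHom p hmul).range ≤ (powHom p hmul).ker := by
      rintro _ ⟨x, rfl⟩
      rw [hker]
      show (x ^ p) ^ p = 1
      rw [← pow_mul, ← pow_two]
      exact hcyc x
    have h1 := (powHom p hmul).ker.card_mul_index
    rw [Subgroup.index_ker, hcard] at h1
    have hne : Nat.card (powHom p hmul).range ≠ 1 := by
      intro h2
      rw [Subgroup.card_eq_one] at h2
      have : x0 ^ p ∈ (powHom p hmul).range := ⟨x0, rfl⟩
      rw [h2, mem_bot] at this
      exact hx0 this
    obtain ⟨i, hi3, hi⟩ := (Nat.dvd_prime_pow hp.out).1 (Dvd.intro_left _ h1)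
    obtain ⟨j, hj3, hj⟩ := (Nat.dvd_prime_pow hp.out).1 (Dvd.intro _ h1)
    have hij : j + i = 3 := by
      rw [hi, hj, ← pow_add] at h1
      exact Nat.pow_right_injective hp.out.two_le h1
    have hile : i ≤ j := by
      have := Nat.le_of_dvd Nat.card_pos (Subgroup.card_dvd_of_le hle)
      rw [hi, hj] at this
      exact (Nat.pow_le_pow_iff_right hp.out.one_lt).1 this
    have hi0 : i ≠ 0 := by
      rintro rfl
      exact hne (by rw [hi, pow_zero])
    have hi1 : i = 1 := by omega
    have hj2 : j = 2 := by omega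
    subst hi1 hj2
    refine h.three hp.out.pos hcard _ _ hle hj (by rw [hi, pow_one]) ?_ ?_
    · intro α y hy
      rw [hker] at hy ⊢
      rw [← map_pow, hy, map_one]
    · rintro α _ ⟨x, rfl⟩
      exact ⟨α x, by show (α x) ^ p = α (x ^ p); rw [map_pow]⟩

theorem map_mem_center (α : MulAut P) : ∀ y ∈ center P, α y ∈ center P := by
  intro y hy
  rw [mem_center_iff] at hy ⊢
  intro g
  have := congrArg α (hy (α⁻¹ g))
  rwa [map_mul, map_mul, MulAut.apply_inv_self] at this

theorem cube_nonabelian_odd [Finite P] [hp : Fact p.Prime] (h : NoChain p P)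
    (hcard : Nat.card P = p ^ 3) (hnc : ∃ x y : P, x * y ≠ y * x) (hodd : Odd p) :
    ∀ x : P, x ^ p = 1 := by
  have hZ := Cfsg.Agent.Lib.Helper46.OrderCube.card_center hcard hnc
  have hcz := Cfsg.Agent.Lib.Helper46.OrderCube.commutator_eq_center hcard hnc
  have hw : ∀ x y : P, ∃ w : P, y * x = w * (x * y) ∧ (∀ g, Commute w g) ∧ w ^ p = 1 := by
    intro x y
    have hmem : ⁅y, x⁆ ∈ center P := by
      rw [← hcz, _root_.commutator_def]
      exact commutator_mem_commutator (mem_top y) (mem_top x)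
    refine ⟨⁅y, x⁆, by rw [commutatorElement_def]; group, fun g => ?_, ?_⟩
    · exact ((mem_center_iff.1 hmem) g).symm
    · have := pow_card_eq_one' (G := center P) (x := ⟨_, hmem⟩)
      rw [hZ] at this
      exact congrArg Subtype.val this
  have h3 : 2 < p := by
    rcases hp.out.eq_two_or_odd' with h2 | _
    · subst h2; exact absurd hodd (by decide)
    · have := hp.out.two_le
      rcases Nat.lt_or_ge 2 p with h | h
      · exact h
      · have : p = 2 := by omega
        subst this; exact absurd hodd (by decide)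
  apply cube_of_powHom h hcard ?_ (center P) hZ map_mem_center ?_
  · intro x y
    obtain ⟨w, hc, hcomm, hwp⟩ := hw x y
    rw [mul_pow_of_comm_central hc (hcomm x) (hcomm y)]
    obtain ⟨k, hk⟩ := hp.out.dvd_choose_self (k := 2) (by norm_num) h3
    rw [hk, pow_mul, hwp, one_pow, one_mul]
  · intro x
    rw [mem_center_iff]
    intro y
    obtain ⟨w, hc, hcomm, hwp⟩ := hw x y
    have := pow_mul_pow_of_comm_central hc (hcomm x) (hcomm y) p 1
    rwa [pow_one, mul_one, hwp, one_mul] at this

theorem cube_nonabelian_two [Finite P] (h : NoChain 2 P)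
    (hcard : Nat.card P = 2 ^ 3) (hnc : ∃ x y : P, x * y ≠ y * x) :
    Nonempty (P ≃* QuaternionGroup 2) := by
  have : Fact (Nat.Prime 2) := ⟨Nat.prime_two⟩
  have hZ := Cfsg.Agent.Lib.Helper46.OrderCube.card_center hcard hnc
  have hall : ∀ x : P, x ^ 2 ^ 3 = 1 := fun x => hcard ▸ pow_card_eq_one'
  -- no element of order 8
  have h4 : ∀ x : P, x ^ 2 ^ 2 = 1 := by
    intro x
    by_contra hx
    have ho : orderOf x = 2 ^ 3 := orderOf_eq_prime_pow hx (hall x)
    have htop : zpowers x = ⊤ := by
      apply Subgroup.eq_top_of_card_eq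
      rw [Nat.card_zpowers, ho, hcard]
    obtain ⟨a, b, hab⟩ := hnc
    apply hab
    have ha : a ∈ zpowers x := by rw [htop]; trivial
    have hb : b ∈ zpowers x := by rw [htop]; trivial
    obtain ⟨i, rfl⟩ := mem_zpowers_iff.1 ha
    obtain ⟨j, rfl⟩ := mem_zpowers_iff.1 hb
    rw [← zpow_add, ← zpow_add, add_comm]
  obtain ⟨x, hx⟩ : ∃ x : P, x ^ 2 ≠ 1 := by
    by_contra hcon
    push Not at hcon
    obtain ⟨a, b, hab⟩ := hnc
    apply hab
    have h1 : ∀ g : P, g⁻¹ = g := fun g => by
      rw [inv_eq_iff_mul_eq_one, ← pow_two]; exact hcon g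
    calc a * b = (a * b)⁻¹ := (h1 _).symm
      _ = b⁻¹ * a⁻¹ := mul_inv_rev a b
      _ = b * a := by rw [h1, h1]
  have ho : orderOf x = 2 ^ (1 + 1) := orderOf_eq_prime_pow (by simpa using hx) (h4 x)
  have hcx : Nat.card (zpowers x) = 4 := by rw [Nat.card_zpowers, ho]; norm_num
  have hidx : (zpowers x).index = 2 := by
    have := (zpowers x).card_mul_index
    rw [hcx, hcard] at this
    omega
  have hxnc : x ∉ center P := by
    intro hxc
    have := pow_card_eq_one' (G := center P) (x := ⟨x, hxc⟩)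
    rw [hZ] at this
    exact hx (congrArg Subtype.val this)
  by_cases hy : ∃ y : P, y ∉ zpowers x ∧ y ^ 2 ≠ 1
  · obtain ⟨y, hyx, hy2⟩ := hy
    have hy2m : y ^ 2 ∈ zpowers x := sq_mem_of_index_two hidx y
    have hyy : y ^ 2 = x ^ 2 := by
      have := eq_pow_half ho hy2m hy2 (by rw [← pow_mul]; exact h4 y)
      simpa using this
    have hn : (zpowers x).Normal := normal_of_index_eq_two hidx
    have hconj : y⁻¹ * x * y ∈ zpowers x := by
      have := hn.conj_mem x (mem_zpowers x) y⁻¹
      rwa [inv_inv] at this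
    obtain ⟨k, hk⟩ := exists_pow_of_mem_zpowers hconj
    have hx4 : x ^ 4 = 1 := by have := h4 x; norm_num at this; exact this
    have hk' : y⁻¹ * x * y = x ^ (k % 4) := by
      rw [hk, ← pow_mod_orderOf, ho]; norm_num
    have hlt : k % 4 < 4 := Nat.mod_lt _ (by norm_num)
    have hinv : y⁻¹ * x * y = x⁻¹ := by
      generalize k % 4 = r at hk' hlt
      interval_cases r
      · exfalso
        rw [pow_zero] at hk'
        have : x = 1 := by
          have h5 : x = y * (y⁻¹ * x * y) * y⁻¹ := by group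
          rw [h5, hk']; group
        exact hx (by rw [this, one_pow])
      · exfalso
        rw [pow_one] at hk'
        have hcomm : x * y = y * x := by
          calc x * y = y * (y⁻¹ * x * y) := by group
            _ = y * x := by rw [hk']
        apply hxnc
        rw [mem_center_iff]
        intro g
        by_cases hg : g ∈ zpowers x
        · obtain ⟨i, rfl⟩ := mem_zpowers_iff.1 hg
          exact ((Commute.refl x).zpow_left i).eq
        · have hgy : g * y ∈ zpowers x := (mul_mem_iff_of_index_two hidx).2 (by simp [hg, hyx])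
          obtain ⟨i, hi⟩ := mem_zpowers_iff.1 hgy
          have hg' : g = x ^ i * y⁻¹ := by rw [hi]; group
          have c1 : Commute (x ^ i) x := (Commute.refl x).zpow_left i
          have c2 : Commute y⁻¹ x := (show Commute y x from hcomm.symm).inv_left
          rw [hg']
          exact (c1.mul_left c2).eq
      · exfalso
        have h5 : (y⁻¹ * x * y) ^ 2 = y⁻¹ * x ^ 2 * y := by
          rw [pow_two, pow_two]; group
        rw [hk', ← pow_mul, hx4] at h5
        apply hx
        have : x ^ 2 = y * (y⁻¹ * x ^ 2 * y) * y⁻¹ := by group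
        rw [this, ← h5]; group
      · rw [hk', eq_inv_iff_mul_eq_one, ← pow_succ, hx4]
    exact Cfsg.Agent.Lib.Helper5.nonempty_mulEquiv_quaternionGroup x y (by rw [ho]; norm_num) hyy hinv hyx
      (by rw [hcard]; norm_num)
  · exfalso
    push Not at hy
    have hα : ∀ α : MulAut P, α x ∈ zpowers x := by
      intro α
      by_contra hc
      have := hy _ hc
      rw [← map_pow] at this
      exact hx ((map_eq_one_iff α α.injective).1 this)
    refine h.three (by norm_num) hcard (zpowers (x ^ 1)) (zpowers (x ^ 2)) ?_ ?_ ?_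
      (fun α => map_mem_zpowers_pow α (hα α) _) (fun α => map_mem_zpowers_pow α (hα α) _)
    · rw [zpowers_le, pow_one]
      exact Subgroup.pow_mem _ (mem_zpowers _) _
    · rw [pow_one, hcx]; norm_num
    · rw [Nat.card_zpowers, orderOf_pow_of_dvd (by norm_num) (by rw [ho]; norm_num), ho]
      norm_num

/-- groups of order `p^3` without characteristic chain. -/
theorem cube_cases [Finite P] [hp : Fact p.Prime] (h : NoChain p P) (hcard : Nat.card P = p ^ 3) :
    ((∀ x y : P, x * y = y * x) ∧ ∀ x : P, x ^ p = 1) ∨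
      (Odd p ∧ Cfsg.IsExtraspecial p P ∧ ∀ x : P, x ^ p = 1) ∨
      (p = 2 ∧ Nonempty (P ≃* QuaternionGroup 2)) := by
  by_cases hc : ∀ x y : P, x * y = y * x
  · exact Or.inl ⟨hc, cube_abelian h hcard hc⟩
  · push Not at hc
    right
    rcases hp.out.eq_two_or_odd' with h2 | hodd
    · subst h2
      exact Or.inr ⟨rfl, cube_nonabelian_two h hcard hc⟩
    · have hexp := cube_nonabelian_odd h hcard hc hodd
      exact Or.inl ⟨hodd, Cfsg.Agent.Lib.Helper46.OrderCube.isExtraspecial_of_exponent hcard hc hexp,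
        hexp⟩

end Cfsg.Agent.Lib.Helper64
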