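import Mathlib
import Cfsg.Agent.Lib.Helper64.EssCube
import Cfsg.Agent.Lib.Helper64.EssBinom

set_option autoImplicit false

/-! Abelian `p`-groups of rank at most two without characteristic chain are homocyclic; automorphisms
of order `p ≥ 5` of `C_{p^a} × C_{p^a}`, `a ≥ 2`, act trivially on the Frattini quotient (helper64). -/

namespace Cfsg.Agent.Lib.Helper64

open Subgroup
open scoped commutatorElement

variable {P : Type*} [CommGroup P] {p : ℕ}

theorem mem_frattini_iff_exists_pow [Finite P] [hp : Fact p.Prime] (hP : IsPGroup p P) (x : P) :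
    x ∈ frattini P ↔ ∃ y : P, y ^ p = x := by
  constructor
  · intro hx
    have h1 : frattini P ≤ (powMonoidHom p : P →* P).range := by
      apply Cfsg.Agent.Lib.Helper2.frattini_le_of_elementary_quotient (p := p)
      · rw [_root_.commutator_def, Subgroup.commutator_le]
        intro a _ b _
        rw [commutatorElement_def, mul_comm a b]
        simp
      · intro y
        exact ⟨y, rfl⟩
    obtain ⟨y, hy⟩ := h1 hx
    exact ⟨y, hy⟩
  · rintro ⟨y, rfl⟩
    exact Cfsg.Agent.Lib.Helper2.pow_p_mem_frattini hP y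

theorem NoChain.two [Finite P] (h : NoChain p P) (M : Subgroup P) (hM : M.index ∣ p)
    (hΦ : (frattini P).relIndex M ∣ p) (hMi : ∀ α : MulAut P, ∀ y ∈ M, α y ∈ M) : False := by
  refine h (fun j => if j = 0 then ⊤ else if j = 1 then M else frattini P) 2 (by simp)
    (by simp) ?_ ?_
  · intro j α y hy
    by_cases h0 : j = 0
    · simp [h0]
    by_cases h1 : j = 1
    · subst h1
      simp only [one_ne_zero, if_false, if_true] at hy ⊢
      exact hMi α y hy
    · simp only [h0, h1, if_false] at hy ⊢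
      exact (map_mem_frattini_iff α).2 hy
  · intro j hj
    interval_cases j
    · simp only [zero_add, one_ne_zero, if_false, if_true]
      rw [relIndex_top_right]
      exact hM
    · simp only [one_ne_zero, if_false, if_true, Nat.reduceAdd, OfNat.ofNat_ne_zero,
        OfNat.ofNat_ne_one]
      exact hΦ

theorem rankTwo_structure [Finite P] [hp : Fact p.Prime] (hP : IsPGroup p P) (h : NoChain p P)
    (hrk : (frattini P).index ≤ p ^ 2) :
    ∃ e : ℕ, (frattini P).index = p ^ 2 ∧ (∀ x : P, x ∈ frattini P ↔ x ^ p ^ e = 1) ∧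
      ∀ x : P, x ^ p ^ (e + 1) = 1 := by
  classical
  obtain ⟨n, hn⟩ := IsPGroup.iff_card.1 hP
  have hex : ∃ k : ℕ, ∀ x : P, x ^ p ^ k = 1 := ⟨n, fun x => hn ▸ pow_card_eq_one'⟩
  have hfind := Nat.find_spec hex
  have hmin := fun k (hk : k < Nat.find hex) => Nat.find_min hex hk
  generalize Nat.find hex = a at hfind hmin
  rcases a with _ | e
  · exfalso
    have htriv : ∀ x : P, x = 1 := fun x => by simpa using hfind x
    refine h (fun _ => ⊤) 0 rfl ?_ (fun _ _ _ _ => mem_top _) (fun j hj => absurd hj (by omega))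
    intro x _
    rw [htriv x]
    exact one_mem _
  · have hne := hmin e (by omega)
    push Not at hne
    obtain ⟨x0, hx0⟩ := hne
    have hker : ∀ x : P, x ∈ (powMonoidHom (p ^ e) : P →* P).ker ↔ x ^ p ^ e = 1 :=
      fun x => MonoidHom.mem_ker
    set M := (powMonoidHom (p ^ e) : P →* P).ker with hMdef
    have hΦM : frattini P ≤ M := by
      intro x hx
      obtain ⟨y, rfl⟩ := (mem_frattini_iff_exists_pow hP x).1 hx
      rw [hker, ← pow_mul, ← pow_succ']
      exact hfind y
    have hMtop : M.index ≠ 1 := by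
      intro h1
      rw [index_eq_one] at h1
      have : x0 ∈ M := by rw [h1]; trivial
      exact hx0 ((hker x0).1 this)
    obtain ⟨i, hi⟩ := hP.index M
    obtain ⟨j, hj⟩ := (hP.to_subgroup M).index ((frattini P).subgroupOf M)
    have hj' : (frattini P).relIndex M = p ^ j := hj
    have hmul := relIndex_mul_index hΦM
    rw [hi, hj', ← pow_add] at hmul
    have hij : j + i ≤ 2 := by
      rw [← hmul] at hrk
      exact (Nat.pow_le_pow_iff_right hp.out.one_lt).1 hrk
    have hi0 : i ≠ 0 := by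
      rintro rfl
      exact hMtop (by rw [hi, pow_zero])
    have hMi : ∀ α : MulAut P, ∀ y ∈ M, α y ∈ M := by
      intro α y hy
      rw [hker] at hy ⊢
      rw [← map_pow, hy, map_one]
    have hi2 : i = 2 := by
      by_contra hi2
      have hi1 : i = 1 := by omega
      have hj1 : j ≤ 1 := by omega
      refine h.two M (by rw [hi, hi1, pow_one]) ?_ hMi
      rw [hj']
      calc p ^ j ∣ p ^ 1 := pow_dvd_pow p hj1
        _ = p := pow_one p
    have hj0 : j = 0 := by omega
    subst hi2 hj0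
    refine ⟨e, hmul.symm, fun x => ⟨fun hx => (hker x).1 (hΦM hx), fun hx => ?_⟩, hfind⟩
    rw [pow_zero, relIndex_eq_one] at hj'
    exact hj' ((hker x).2 hx)

theorem mem_of_pow_mem_of_not_dvd [hp : Fact p.Prime] (X : Subgroup P) {y : P} {j : ℕ}
    (h1 : y ^ j ∈ X) (h2 : y ^ p ∈ X) (hj : ¬ p ∣ j) : y ∈ X := by
  have hc : Nat.Coprime j p := ((Nat.Prime.coprime_iff_not_dvd hp.out).2 hj).symm
  obtain ⟨m, -, hm⟩ := Nat.exists_mul_mod_eq_one_of_coprime hc hp.out.one_lt
  have h3 : j * m = p * (j * m / p) + 1 := by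
    conv_lhs => rw [← Nat.div_add_mod (j * m) p, hm]
  have h4 : y ^ (j * m) ∈ X := by rw [pow_mul]; exact X.pow_mem h1 m
  rw [h3, pow_succ, pow_mul] at h4
  exact (X.mul_mem_cancel_left (X.pow_mem h2 _)).1 h4

theorem rankTwo_homocyclic [Finite P] [hp : Fact p.Prime] (hP : IsPGroup p P) {e : ℕ}
    (hidx : (frattini P).index = p ^ 2) (hM : ∀ x : P, x ∈ frattini P ↔ x ^ p ^ e = 1)
    (hexp : ∀ x : P, x ^ p ^ (e + 1) = 1) :
    Nonempty (P ≃* Multiplicative (ZMod (p ^ (e + 1)) × ZMod (p ^ (e + 1)))) := by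
  have hp1 := hp.out.one_lt
  have hord : ∀ x : P, x ∉ frattini P → orderOf x = p ^ (e + 1) := by
    intro x hx
    exact orderOf_eq_prime_pow (fun h => hx ((hM x).2 h)) (hexp x)
  have hpow : ∀ x : P, x ^ p ∈ frattini P := fun x => (mem_frattini_iff_exists_pow hP _).2 ⟨x, rfl⟩
  obtain ⟨x, hx⟩ : ∃ x : P, x ∉ frattini P := by
    by_contra hcon
    push Not at hcon
    have : frattini P = ⊤ := eq_top_iff.2 fun x _ => hcon x
    rw [this, index_top] at hidx
    have := Nat.one_lt_pow (n := 2) (by norm_num) hp1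
    omega
  have hox := hord x hx
  have hXlt : frattini P < zpowers x ⊔ frattini P :=
    lt_of_le_of_ne le_sup_right fun h => hx (h ▸ (le_sup_left : zpowers x ≤ _) (mem_zpowers x))
  have hXtop : zpowers x ⊔ frattini P ≠ ⊤ := by
    intro h
    have htop := frattini_nongenerating h
    have hcard : Nat.card P = p ^ (e + 1) := by
      rw [← hox, ← Nat.card_zpowers, htop, card_top]
    have hle : zpowers (x ^ p) ≤ frattini P := by
      rw [zpowers_le]; exact hpow x
    have hc2 : Nat.card (zpowers (x ^ p)) = p ^ e := by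
      rw [Nat.card_zpowers, orderOf_pow_of_dvd hp.out.ne_zero (by rw [hox]; exact ⟨p ^ e, by ring⟩), hox]
      exact Nat.div_eq_of_eq_mul_left hp.out.pos (by ring)
    have hi2 : (zpowers (x ^ p)).index = p := by
      have := (zpowers (x ^ p)).card_mul_index
      rw [hc2, hcard] at this
      exact Nat.eq_of_mul_eq_mul_left (pow_pos hp.out.pos e) (by rw [this]; ring)
    have := index_dvd_of_le hle
    rw [hi2, hidx] at this
    have h2 := Nat.le_of_dvd hp.out.pos this
    nlinarith
  obtain ⟨y, hy⟩ : ∃ y : P, y ∉ zpowers x ⊔ frattini P := by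
    by_contra hcon
    push Not at hcon
    exact hXtop (eq_top_iff.2 fun x _ => hcon x)
  have hyΦ : y ∉ frattini P := fun h => hy ((le_sup_right : frattini P ≤ _) h)
  have hoy := hord y hyΦ
  -- generation
  have hXidx : (zpowers x ⊔ frattini P).index = p := by
    have h1 := index_strictAnti hXlt
    have h2 := index_dvd_of_le hXlt.le
    rw [hidx] at h1 h2
    obtain ⟨k, hk2, hk⟩ := (Nat.dvd_prime_pow hp.out).1 h2
    have hk0 : k ≠ 0 := by
      rintro rfl
      rw [pow_zero, index_eq_one] at hk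
      exact hXtop hk
    have hk2' : k ≠ 2 := by
      rintro rfl
      omega
    have : k = 1 := by omega
    rw [hk, this, pow_one]
  have hgen : zpowers x ⊔ zpowers y = ⊤ := by
    apply frattini_nongenerating
    have hlt : zpowers x ⊔ frattini P < zpowers x ⊔ zpowers y ⊔ frattini P := by
      refine lt_of_le_of_ne (sup_le_sup_right le_sup_left _) fun h => hy ?_
      rw [h]
      exact (le_sup_left : zpowers x ⊔ zpowers y ≤ _) ((le_sup_right : zpowers y ≤ _) (mem_zpowers y))
    have h1 := index_strictAnti hlt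
    have h2 := index_dvd_of_le hlt.le
    rw [hXidx] at h1 h2
    rcases (Nat.dvd_prime hp.out).1 h2 with h3 | h3
    · exact index_eq_one.1 h3
    · omega
  have hI : zpowers x ⊓ zpowers y = ⊥ := by
    by_contra hne
    obtain ⟨t, ht, ht1⟩ : ∃ t : P, t ∈ zpowers x ⊓ zpowers y ∧ t ≠ 1 := by
      obtain ⟨t, ht⟩ := Subgroup.ne_bot_iff_exists_ne_one.1 hne
      exact ⟨t, t.2, fun h' => ht (Subtype.ext h')⟩
    -- a power of order p
    obtain ⟨k, hk⟩ := (hP t)
    have hex : ∃ k, t ^ p ^ k = 1 := ⟨k, hk⟩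
    classical
    have hfind := Nat.find_spec hex
    have hmin := fun k (hk : k < Nat.find hex) => Nat.find_min hex hk
    generalize Nat.find hex = a at hfind hmin
    rcases a with _ | a
    · exact ht1 (by simpa using hfind)
    have hs1 : t ^ p ^ a ≠ 1 := hmin a (by omega)
    have hsp : (t ^ p ^ a) ^ p ^ 1 = 1 := by rw [pow_one, ← pow_mul, ← pow_succ]; exact hfind
    have hsx := mem_zpowers_pow_of_pow_eq_one hox (Subgroup.pow_mem _ ht.1 (p ^ a)) hsp
    have hsy := mem_zpowers_pow_of_pow_eq_one hoy (Subgroup.pow_mem _ ht.2 (p ^ a)) hsp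
    rw [Nat.add_sub_cancel] at hsx hsy
    obtain ⟨i, hi⟩ := exists_pow_of_mem_zpowers hsx
    obtain ⟨j, hj⟩ := exists_pow_of_mem_zpowers hsy
    have hjp : ¬ p ∣ j := by
      rintro ⟨c, rfl⟩
      apply hs1
      rw [hj, ← pow_mul, ← mul_assoc, ← pow_succ, pow_mul, hexp, one_pow]
    have h1 : (y ^ j * (x ^ i)⁻¹) ^ p ^ e = 1 := by
      rw [mul_pow, inv_pow, ← pow_mul, ← pow_mul, mul_comm j, mul_comm i, pow_mul, pow_mul, ← hi, ← hj,
        mul_inv_cancel]
    have h2 : y ^ j * (x ^ i)⁻¹ ∈ frattini P := (hM _).2 h1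
    have h3 : y ^ j ∈ zpowers x ⊔ frattini P := by
      have : y ^ j = x ^ i * (y ^ j * (x ^ i)⁻¹) := by
        rw [mul_comm (y ^ j), mul_inv_cancel_left]
      rw [this]
      exact Subgroup.mul_mem _ ((le_sup_left : zpowers x ≤ _) (Subgroup.pow_mem _ (mem_zpowers x) i))
        ((le_sup_right : frattini P ≤ _) h2)
    exact hy (mem_of_pow_mem_of_not_dvd _ h3 ((le_sup_right : frattini P ≤ _) (hpow y)) hjp)
  obtain ⟨E⟩ := nonempty_mulEquiv_prod_of_disjoint hox hoy (Commute.all x y) hI (by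
    intro g
    have hg : g ∈ zpowers x ⊔ zpowers y := by rw [hgen]; trivial
    obtain ⟨a, ha, b, hb, rfl⟩ := Subgroup.mem_sup.1 hg
    obtain ⟨i, rfl⟩ := exists_pow_of_mem_zpowers ha
    obtain ⟨j, rfl⟩ := exists_pow_of_mem_zpowers hb
    exact ⟨i, j, rfl⟩)
  exact ⟨E.trans (MulEquiv.prodMultiplicative (G := ZMod (p ^ (e + 1))) (H := ZMod (p ^ (e + 1)))).symm⟩

/-- the endomorphism of `Additive P` given by an automorphism. -/
def addEnd (φ : MulAut P) : AddMonoid.End (Additive P) := MonoidHom.toAdditive φ.toMonoidHom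

theorem addEnd_apply (φ : MulAut P) (v : Additive P) :
    addEnd φ v = Additive.ofMul (φ (Additive.toMul v)) := rfl

theorem addEnd_pow (φ : MulAut P) (k : ℕ) : addEnd φ ^ k = addEnd (φ ^ k) := by
  induction k with
  | zero => rfl
  | succ k ih =>
    rw [pow_succ, pow_succ, ih]
    rfl

theorem mem_frattiniKer_of_order_p [Finite P] [hp : Fact p.Prime] (hP : IsPGroup p P) (h5 : 3 < p)
    {e : ℕ} (he : 1 ≤ e) (hidx : (frattini P).index = p ^ 2)
    (hM : ∀ x : P, x ∈ frattini P ↔ x ^ p ^ e = 1) (φ : MulAut P) (hφ : φ ^ p = 1) :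
    φ ∈ frattiniKer P := by
  have hΦ : ∀ (γ : MulAut P), ∀ v ∈ frattini P, γ v ∈ frattini P :=
    fun γ v hv => (map_mem_frattini_iff γ).2 hv
  have hpow : ∀ x : P, x ^ p ∈ frattini P := fun x => (mem_frattini_iff_exists_pow hP _).2 ⟨x, rfl⟩
  -- a fixed point on the Frattini quotient
  obtain ⟨v, hv, hvφ⟩ : ∃ v : P, v ∉ frattini P ∧ v⁻¹ * φ v ∈ frattini P := by
    have hfo : IsOfFinOrder φ := isOfFinOrder_iff_pow_eq_one.2 ⟨p, hp.out.pos, hφ⟩
    have hG : IsPGroup p (zpowers φ) := by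
      rintro ⟨b, hb⟩
      obtain ⟨t, rfl⟩ := (hfo.mem_powers_iff_mem_zpowers).2 hb
      refine ⟨1, ?_⟩
      ext1
      show (φ ^ t) ^ p ^ 1 = 1
      rw [pow_one, ← pow_mul, mul_comm, pow_mul, hφ, one_pow]
    have : MulAction.QuotientAction (zpowers φ) (frattini P) := by
      constructor
      intro b a a' h
      have h1 := hΦ b.1 _ h
      rw [map_mul, map_inv] at h1
      exact h1
    have hone : ((1 : P) : P ⧸ frattini P) ∈ MulAction.fixedPoints (zpowers φ) (P ⧸ frattini P) := by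
      intro b
      show (((b : MulAut P) 1 : P) : P ⧸ frattini P) = _
      rw [map_one]
    have hcard : p ∣ Nat.card (P ⧸ frattini P) := by
      have : Nat.card (P ⧸ frattini P) = p ^ 2 := hidx
      rw [this]
      exact ⟨p, by ring⟩
    obtain ⟨b, hb, hb1⟩ := hG.exists_fixed_point_of_prime_dvd_card_of_fixed_point _ hcard hone
    obtain ⟨v, rfl⟩ := QuotientGroup.mk_surjective b
    refine ⟨v, fun hv => hb1 ?_, ?_⟩
    · exact ((QuotientGroup.eq_one_iff v).2 hv).symm
    · have h2 := hb ⟨φ, mem_zpowers φ⟩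
      have h3 : ((φ v : P) : P ⧸ frattini P) = (v : P ⧸ frattini P) := h2
      exact QuotientGroup.eq.1 h3.symm
  have hM1 : ∀ x ∈ zpowers v ⊔ frattini P, x⁻¹ * φ x ∈ frattini P := by
    intro x hx
    obtain ⟨a, ha, t, ht, rfl⟩ := Subgroup.mem_sup.1 hx
    obtain ⟨i, rfl⟩ := mem_zpowers_iff.1 ha
    have e1 : (v ^ i * t)⁻¹ * φ (v ^ i * t) = (v⁻¹ * φ v) ^ i * (t⁻¹ * φ t) := by
      rw [map_mul, map_zpow, mul_zpow, inv_zpow, mul_inv]
      exact mul_mul_mul_comm _ _ _ _
    rw [e1]
    exact Subgroup.mul_mem _ (Subgroup.zpow_mem _ hvφ i)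
      (Subgroup.mul_mem _ (Subgroup.inv_mem _ ht) (hΦ φ t ht))
  have hlt : frattini P < zpowers v ⊔ frattini P :=
    lt_of_le_of_ne le_sup_right fun h => hv (h ▸ (le_sup_left : zpowers v ≤ _) (mem_zpowers v))
  have h1 := index_strictAnti hlt
  have h2 := index_dvd_of_le hlt.le
  rw [hidx] at h1 h2
  obtain ⟨k, hk2, hk⟩ := (Nat.dvd_prime_pow hp.out).1 h2
  have hk2' : k ≠ 2 := by
    rintro rfl
    omega
  rw [mem_frattiniKer]
  rcases Nat.eq_zero_or_pos k with rfl | hk0
  · rw [pow_zero, index_eq_one] at hk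
    intro x
    rw [mul_comm]
    exact hM1 x (by rw [hk]; trivial)
  have hk1 : k = 1 := by omega
  subst hk1
  rw [pow_one] at hk
  have hT : ∀ x : P, x⁻¹ * φ x ∈ zpowers v ⊔ frattini P := by
    intro x
    refine inv_mul_apply_mem_of_index_prime _ hk φ 1 (by rw [pow_one]; exact hφ) ?_ x
    intro w hw
    have : φ w = w * (w⁻¹ * φ w) := by group
    rw [this]
    exact Subgroup.mul_mem _ hw ((le_sup_right : frattini P ≤ _) (hM1 w hw))
  -- the ring computation
  have hN : ∀ w : Additive P, (addEnd φ - 1) w = Additive.ofMul ((Additive.toMul w)⁻¹ * φ (Additive.toMul w)) := by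
    intro w
    show Additive.ofMul (φ (Additive.toMul w) / Additive.toMul w) = _
    rw [div_eq_mul_inv, mul_comm]
  have hkey := smul_apply_mem_of_pow_eq_one hp.out h5 (addEnd φ - 1)
    (by rw [add_sub_cancel, addEnd_pow, hφ]; rfl)
    (by
      intro w
      rw [hN, hN]
      obtain ⟨y, hy⟩ := (mem_frattini_iff_exists_pow hP _).1 (hM1 _ (hT (Additive.toMul w)))
      refine ⟨Additive.ofMul y, ?_⟩
      rw [← ofMul_pow, hy]
      rfl)
  intro x
  obtain ⟨u, hu⟩ := hkey (Additive.ofMul x)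
  rw [hN] at hu
  have hu' : (x⁻¹ * φ x) ^ p = (Additive.toMul u) ^ p ^ 2 := by
    have := congrArg Additive.toMul hu
    rw [toMul_nsmul, toMul_nsmul, toMul_ofMul] at this
    exact this
  have h3 : (x⁻¹ * φ x * ((Additive.toMul u) ^ p)⁻¹) ^ p = 1 := by
    rw [mul_pow, hu', inv_pow, ← pow_mul, ← pow_two, mul_inv_cancel]
  have h4 : x⁻¹ * φ x * ((Additive.toMul u) ^ p)⁻¹ ∈ frattini P := by
    rw [hM]
    obtain ⟨e', rfl⟩ : ∃ e', e = e' + 1 := ⟨e - 1, by omega⟩
    rw [pow_succ', pow_mul, h3, one_pow]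
  have h5' := Subgroup.mul_mem _ h4 (hpow (Additive.toMul u))
  rw [inv_mul_cancel_right] at h5'
  rwa [mul_comm]

end Cfsg.Agent.Lib.Helper64
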