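import Mathlib

set_option autoImplicit false

/-! Two lemmas on automorphisms (helper64):
* two transvections of `C_p × C_p` with different centres generate a group containing `-1`;
* a `p`-group (`p` odd) has no automorphism inverting `z = [w, g] ≠ 1` (central) and `w`, if every
  `x` with `[w, x] = z` has `z ∈ ⟨x⟩`. -/

namespace Cfsg.Agent.Lib.Helper64

open Subgroup

section transvections

variable {E : Type*} [Group E]

theorem exists_normalized_transvection (hcomm : ∀ x y : E, x * y = y * x) {p : ℕ}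
    [hp : Fact p.Prime] (hexp : ∀ e : E, e ^ p = 1) (z y : E) (t : MulAut E) (h1 : t z = z)
    (h2 : t y ≠ y) (h3 : t y * y⁻¹ ∈ zpowers z) :
    ∃ i : ℕ, (t ^ i) z = z ∧ (t ^ i) y = y * z := by
  set c := t y * y⁻¹ with hc
  have hc1 : c ≠ 1 := by
    intro h
    apply h2
    rw [hc] at h
    exact mul_inv_eq_one.1 h
  have hty : t y = y * c := by rw [hcomm y c, hc]; group
  obtain ⟨a, ha⟩ := h3
  have htc : t c = c := by
    rw [← ha, map_zpow, h1]
  have hz1 : z ≠ 1 := by
    rintro rfl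
    apply hc1; rw [← ha]; simp
  have hoz : orderOf z = p := orderOf_eq_prime (hexp z) hz1
  have hoc : orderOf c = p := orderOf_eq_prime (hexp c) hc1
  have hzc : z ∈ zpowers c := by
    have hle : zpowers c ≤ zpowers z := by
      rw [zpowers_le]; exact ⟨a, ha⟩
    have hcard : Nat.card (zpowers z) ≤ Nat.card (zpowers c) := by
      rw [Nat.card_zpowers, Nat.card_zpowers, hoz, hoc]
    have : Finite (zpowers z) := by
      apply Nat.finite_of_card_ne_zero
      rw [Nat.card_zpowers, hoz]; exact hp.out.ne_zero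
    rw [Subgroup.eq_of_le_of_card_ge hle hcard]
    exact mem_zpowers z
  have hfin : IsOfFinOrder c := isOfFinOrder_iff_pow_eq_one.2 ⟨p, hp.out.pos, hexp c⟩
  obtain ⟨i, hi⟩ := Submonoid.mem_powers_iff _ _ |>.1 (hfin.mem_powers_iff_mem_zpowers.2 hzc)
  refine ⟨i, ?_, ?_⟩
  · clear hi
    induction i with
    | zero => simp
    | succ i ih => rw [pow_succ', MulAut.mul_apply, ih, h1]
  · rw [← hi]
    clear hi
    induction i with
    | zero => simp
    | succ i ih =>
      rw [pow_succ', MulAut.mul_apply, ih, map_mul, map_pow, htc, hty, pow_succ', mul_assoc]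

theorem exists_inv_of_transvections (hcomm : ∀ x y : E, x * y = y * x) {p : ℕ}
    [hp : Fact p.Prime] (hexp : ∀ e : E, e ^ p = 1) (z y : E)
    (hgen : ∀ e : E, ∃ i j : ℕ, e = z ^ i * y ^ j) (A : Subgroup (MulAut E)) (t t' : MulAut E)
    (ht : t ∈ A) (ht' : t' ∈ A) (h1 : t z = z) (h2 : t y ≠ y) (h3 : t y * y⁻¹ ∈ zpowers z)
    (h4 : t' y = y) (h5 : t' z ≠ z) (h6 : t' z * z⁻¹ ∈ zpowers y) :
    ∃ δ ∈ A, ∀ e : E, δ e = e⁻¹ := by
  obtain ⟨i, hUz, hUy⟩ := exists_normalized_transvection hcomm hexp z y t h1 h2 h3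
  obtain ⟨j, hLy, hLz⟩ := exists_normalized_transvection hcomm hexp y z t' h4 h5 h6
  set U := t ^ i with hU
  set L0 := t' ^ j with hL0
  have hUA : U ∈ A := A.pow_mem ht i
  have hLA : L0⁻¹ ∈ A := A.inv_mem (A.pow_mem ht' j)
  set L := L0⁻¹ with hL
  have hLy' : L y = y := by
    rw [hL, MulAut.inv_apply, MulEquiv.symm_apply_eq, hLy]
  have hLz' : L z = z * y⁻¹ := by
    rw [hL, MulAut.inv_apply, MulEquiv.symm_apply_eq, map_mul, map_inv, hLy, hLz]; group
  set W := U * L * U with hW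
  have hWz : W z = y⁻¹ := by
    rw [hW, MulAut.mul_apply, MulAut.mul_apply, hUz, hLz', map_mul, map_inv, hUz, hUy]; group
  have hWy : W y = z := by
    rw [hW, MulAut.mul_apply, MulAut.mul_apply, hUy, map_mul, hLy', hLz', map_mul, map_mul,
      map_inv, hUz, hUy]
    have : y * z * (z * (y * z)⁻¹) = y * z * y⁻¹ := by group
    rw [this, hcomm y z]; group
  refine ⟨W * W, A.mul_mem (A.mul_mem (A.mul_mem hUA hLA) hUA) (A.mul_mem (A.mul_mem hUA hLA) hUA),
    fun e => ?_⟩
  obtain ⟨r, s, rfl⟩ := hgen e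
  rw [MulAut.mul_apply, map_mul, map_pow, map_pow, hWz, hWy, map_mul, map_pow, map_pow, map_inv,
    hWy, hWz, hcomm (z ^ r) (y ^ s), mul_inv_rev, inv_pow, inv_pow]

end transvections

section inverting

variable {G : Type*} [Group G]

theorem pow_odd_apply_of_inverts (α : MulAut G) {x : G} (h : α x = x⁻¹) {m : ℕ} (hm : Odd m) :
    (α ^ m) x = x⁻¹ := by
  obtain ⟨r, rfl⟩ := hm
  have h2 : ∀ r : ℕ, (α ^ (2 * r)) x = x := by
    intro r
    induction r with
    | zero => simp
    | succ r ih =>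
      rw [mul_add, mul_one, pow_add, MulAut.mul_apply, pow_two, MulAut.mul_apply, h, map_inv, h,
        inv_inv, ih]
  rw [pow_succ', MulAut.mul_apply, h2, h]

theorem comm_inv_iff {z w u : G} (hzc : ∀ x, x * z = z * x) :
    w⁻¹ * u * w * u⁻¹ = z⁻¹ ↔ w * u * w⁻¹ * u⁻¹ = z := by
  constructor
  · intro h
    have h1 : u * w * u⁻¹ = w * z⁻¹ := by
      calc u * w * u⁻¹ = w * (w⁻¹ * u * w * u⁻¹) := by group
        _ = w * z⁻¹ := by rw [h]
    calc w * u * w⁻¹ * u⁻¹ = w * (u * w * u⁻¹)⁻¹ := by group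
      _ = w * z * w⁻¹ := by rw [h1]; group
      _ = z := by rw [hzc w]; group
  · intro h
    have h1 : u * w⁻¹ * u⁻¹ = w⁻¹ * z := by
      calc u * w⁻¹ * u⁻¹ = w⁻¹ * (w * u * w⁻¹ * u⁻¹) := by group
        _ = w⁻¹ * z := by rw [h]
    calc w⁻¹ * u * w * u⁻¹ = w⁻¹ * (u * w⁻¹ * u⁻¹)⁻¹ := by group
      _ = w⁻¹ * z⁻¹ * w := by rw [h1]; group
      _ = (w⁻¹ * z * w)⁻¹ := by group
      _ = z⁻¹ := by rw [hzc w⁻¹]; group

theorem false_of_inverting_aut [Finite G] {p : ℕ} [hp : Fact p.Prime] (hp2 : p ≠ 2)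
    (hG : IsPGroup p G) (α : MulAut G) (z w g : G) (hz1 : z ≠ 1) (hzc : ∀ x, x * z = z * x)
    (hg : w * g * w⁻¹ * g⁻¹ = z) (hαz : α z = z⁻¹) (hαw : α w = w⁻¹)
    (H : ∀ x, w * x * w⁻¹ * x⁻¹ = z → z ∈ zpowers x) : False := by
  classical
  obtain ⟨k, m, hm, hkm⟩ := Nat.exists_eq_two_pow_mul_odd (orderOf_pos α).ne'
  set β := α ^ m with hβ
  have hβz : β z = z⁻¹ := pow_odd_apply_of_inverts α hαz hm
  have hβw : β w = w⁻¹ := pow_odd_apply_of_inverts α hαw hm
  have hβk : β ^ 2 ^ k = 1 := by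
    rw [hβ, ← pow_mul, mul_comm, ← hkm, pow_orderOf_eq_one]
  have hpres : ∀ u : G, w * (β u) * w⁻¹ * (β u)⁻¹ = z ↔ w * u * w⁻¹ * u⁻¹ = z := by
    intro u
    have h1 : w * (β u) * w⁻¹ * (β u)⁻¹ = β (w⁻¹ * u * w * u⁻¹) := by
      simp only [map_mul, map_inv, hβw, inv_inv]
    have h2 : z = β z⁻¹ := by rw [map_inv, hβz, inv_inv]
    rw [h1, ← comm_inv_iff hzc]
    constructor
    · intro h
      rw [h2] at h
      exact β.injective h
    · intro h
      rw [h, ← h2]
  let f : Equiv.Perm G := MulAut.toPerm G β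
  have hf : ∀ u, w * (f u) * w⁻¹ * (f u)⁻¹ = z ↔ w * u * w⁻¹ * u⁻¹ = z := hpres
  let σ : Equiv.Perm {u : G // w * u * w⁻¹ * u⁻¹ = z} := f.subtypePerm hf
  have hσ : σ ^ 2 ^ k = 1 := by
    have hfk : f ^ 2 ^ k = 1 := by
      rw [← map_pow, hβk, map_one]
    ext u
    simp only [σ, Equiv.Perm.subtypePerm_pow, Equiv.Perm.subtypePerm_apply, hfk]
    simp
  have := Fintype.ofFinite G
  have hcard : ¬ 2 ∣ Fintype.card {u : G // w * u * w⁻¹ * u⁻¹ = z} := by
    let e : centralizer ({w} : Set G) ≃ {u : G // w * u * w⁻¹ * u⁻¹ = z} :=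
      { toFun := fun c => ⟨g * c, by
          have hc : (c : G) * w = w * c := by
            have := mem_centralizer_iff.1 c.2 w (Set.mem_singleton w)
            exact this.symm
          calc w * (g * c) * w⁻¹ * (g * c)⁻¹ = w * g * (c * w⁻¹ * (c : G)⁻¹) * g⁻¹ := by group
            _ = w * g * w⁻¹ * g⁻¹ := by
                have : (c : G) * w⁻¹ * (c : G)⁻¹ = w⁻¹ := by
                  calc (c : G) * w⁻¹ * (c : G)⁻¹ = ((c : G) * w * (c : G)⁻¹)⁻¹ := by group
                    _ = w⁻¹ := by rw [hc]; group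
                rw [this]
            _ = z := hg⟩
        invFun := fun u => ⟨g⁻¹ * u, by
          rw [mem_centralizer_iff]
          intro x hx
          rw [Set.mem_singleton_iff] at hx
          subst hx
          have h1 : x * g = z * g * x := by
            calc x * g = (x * g * x⁻¹ * g⁻¹) * g * x := by group
              _ = z * g * x := by rw [hg]
          have h2 : x * (u : G) = z * u * x := by
            calc x * (u : G) = (x * u * x⁻¹ * (u : G)⁻¹) * u * x := by group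
              _ = z * u * x := by rw [u.2]
          have h3 : g⁻¹ * x = x * g⁻¹ * z := by
            calc g⁻¹ * x = g⁻¹ * (x * g) * g⁻¹ := by group
              _ = g⁻¹ * (z * g * x) * g⁻¹ := by rw [h1]
              _ = (g⁻¹ * z) * g * x * g⁻¹ := by group
              _ = (z * g⁻¹) * g * x * g⁻¹ := by rw [hzc g⁻¹]
              _ = z * (x * g⁻¹) := by group
              _ = x * g⁻¹ * z := (hzc _).symm
          have h4 : x * z⁻¹ = z⁻¹ * x := (Commute.inv_right (show Commute x z from hzc x)).eq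
          calc x * (g⁻¹ * (u : G)) = (x * g⁻¹ * z) * z⁻¹ * u := by group
            _ = g⁻¹ * (x * z⁻¹) * u := by rw [← h3]; group
            _ = g⁻¹ * z⁻¹ * (x * u) := by rw [h4]; group
            _ = g⁻¹ * z⁻¹ * (z * u * x) := by rw [h2]
            _ = g⁻¹ * u * x := by group⟩
        left_inv := fun c => by ext; simp
        right_inv := fun u => by ext; simp }
    rw [← Fintype.card_congr e, ← Nat.card_eq_fintype_card]
    obtain ⟨n, hn⟩ := (hG.to_subgroup (centralizer ({w} : Set G))).exists_card_eq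
    rw [hn]
    intro h2
    exact hp2 ((Nat.prime_dvd_prime_iff_eq Nat.prime_two hp.out).1
      (Nat.prime_two.dvd_of_dvd_pow h2)).symm
  obtain ⟨u, hu⟩ := Equiv.Perm.exists_fixed_point_of_prime (p := 2) hcard hσ
  have hu' : β (u : G) = u := congrArg Subtype.val hu
  obtain ⟨i, hi⟩ := H u u.2
  have h3 : β z = z := by
    rw [← hi]; simp only [map_zpow, hu']
  rw [hβz] at h3
  have h4 : z ^ 2 = 1 := by
    rw [pow_two]
    nth_rewrite 1 [← h3]
    simp
  obtain ⟨n, hn⟩ := hG z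
  have h5 : orderOf z ∣ Nat.gcd 2 (p ^ n) :=
    Nat.dvd_gcd (orderOf_dvd_of_pow_eq_one h4) (orderOf_dvd_of_pow_eq_one hn)
  have h6 : Nat.gcd 2 (p ^ n) = 1 := by
    apply Nat.Coprime.pow_right
    exact (Nat.coprime_primes Nat.prime_two hp.out).2 (Ne.symm hp2)
  rw [h6, Nat.dvd_one, orderOf_eq_one_iff] at h5
  exact hz1 h5

end inverting

end Cfsg.Agent.Lib.Helper64
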