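import Cfsg.Agent.Lib.Helper64.IrredPrimeOrder

set_option autoImplicit false

namespace Cfsg.Agent.Lib.Helper64

theorem card_eq_of_irreducible_comm_aux {p q : ℕ} [Fact p.Prime] [Fact q.Prime] (hpq : q ≠ p)
    {A : Type*} [CommGroup A] [Finite A] [Nontrivial A] [Module (ZMod q) (Additive A)]
    (σ : A →* A) (hσp : ∀ a, σ^[p] a = a) (hσ1 : ∃ a, σ a ≠ a)
    (hmin : ∀ B : Subgroup A, (∀ b ∈ B, σ b ∈ B) → B = ⊥ ∨ B = ⊤) :
    Nat.card A = q ^ orderOf (q : ZMod p) := by
  let f : Additive A →ₗ[ZMod q] Additive A := (MonoidHom.toAdditive σ).toZModLinearMap q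
  have hf : ∀ v : Additive A, f v = Additive.ofMul (σ v.toMul) := fun v => rfl
  have hfiter : ∀ n : ℕ, ∀ v : Additive A, (f ^ n) v = Additive.ofMul (σ^[n] v.toMul) := by
    intro n
    induction n with
    | zero => intro v; rfl
    | succ n ih =>
      intro v
      rw [pow_succ', Module.End.mul_apply, ih, hf, Function.iterate_succ_apply']
      rfl
  have hfin : Module.Finite (ZMod q) (Additive A) := Module.Finite.of_finite
  have h := finrank_eq_orderOf_of_irreducible (q := q) (p := p) hpq f (by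
      ext v
      rw [hfiter, hσp]
      rfl) (by
      intro h1
      obtain ⟨a, ha⟩ := hσ1
      apply ha
      have := congrArg (fun φ : Additive A →ₗ[ZMod q] Additive A => φ (Additive.ofMul a)) h1
      exact this) (by
      intro W hW
      let B : Subgroup A := AddSubgroup.toSubgroup' W.toAddSubgroup
      have hB : ∀ a : A, a ∈ B ↔ Additive.ofMul a ∈ W := fun a => Iff.rfl
      rcases hmin B (fun b hb => hW _ hb) with h | h
      · left
        rw [eq_bot_iff]
        intro v hv
        have : v.toMul ∈ B := hv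
        rw [h, Subgroup.mem_bot] at this
        rw [Submodule.mem_bot]
        exact this
      · right
        rw [eq_top_iff]
        intro v _
        have : v.toMul ∈ B := by rw [h]; exact Subgroup.mem_top _
        exact this)
  have hcard := Module.natCard_eq_pow_finrank (K := ZMod q) (V := Additive A)
  rw [h, Nat.card_zmod] at hcard
  exact hcard

/-- An endomorphism `σ` with `σ^p = 1`, `σ ≠ 1` acting irreducibly on a nontrivial finite elementary abelian
`q`-group `A`, `q ≠ p`: then `|A| = q ^ ord_p(q)`. -/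
theorem card_eq_of_irreducible_comm {p q : ℕ} [Fact p.Prime] [Fact q.Prime] (hpq : q ≠ p)
    {A : Type*} [CommGroup A] [Finite A] [Nontrivial A] (hAq : ∀ a : A, a ^ q = 1)
    (σ : A →* A) (hσp : ∀ a, σ^[p] a = a) (hσ1 : ∃ a, σ a ≠ a)
    (hmin : ∀ B : Subgroup A, (∀ b ∈ B, σ b ∈ B) → B = ⊥ ∨ B = ⊤) :
    Nat.card A = q ^ orderOf (q : ZMod p) :=
  @card_eq_of_irreducible_comm_aux p q _ _ hpq A _ _ _ (AddCommGroup.zmodModule (n := q) (by
    intro x
    exact hAq x.toMul)) σ hσp hσ1 hmin

open Subgroup in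
/-- Ambient version: `A ≤ G` elementary abelian, `x ∈ G` normalizing `A`, acting irreducibly and nontrivially with
`x ^ p` centralizing `A`. -/
theorem card_eq_pow_orderOf_of_minimal {G : Type*} [Group G] [Finite G] {p q : ℕ} [Fact p.Prime]
    [Fact q.Prime] (hpq : q ≠ p) (A : Subgroup G) (hAc : IsMulCommutative A)
    (hAq : ∀ a ∈ A, a ^ q = 1) (hAne : A ≠ ⊥)
    (x : G) (hx : ∀ a ∈ A, x * a * x⁻¹ ∈ A) (hxp : ∀ a ∈ A, x ^ p * a * (x ^ p)⁻¹ = a)
    (hx1 : ∃ a ∈ A, x * a * x⁻¹ ≠ a)
    (hmin : ∀ B : Subgroup G, B ≤ A → (∀ b ∈ B, x * b * x⁻¹ ∈ B) → B = ⊥ ∨ B = A) :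
    Nat.card A = q ^ orderOf (q : ZMod p) := by
  let _ : CommGroup A := { (inferInstance : Group A) with mul_comm := hAc.is_comm.comm }
  have : Nontrivial A := (Subgroup.nontrivial_iff_ne_bot A).2 hAne
  let σ : A →* A := MonoidHom.mk' (fun a => ⟨x * a * x⁻¹, hx a a.2⟩) (by
    intro a b
    apply Subtype.ext
    simp [mul_assoc])
  have hσ : ∀ a : A, ((σ a : A) : G) = x * a * x⁻¹ := fun a => rfl
  have hiter : ∀ n : ℕ, ∀ a : A, ((σ^[n] a : A) : G) = x ^ n * a * (x ^ n)⁻¹ := by
    intro n
    induction n with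
    | zero => intro a; simp
    | succ n ih =>
      intro a
      rw [Function.iterate_succ_apply', hσ, ih, pow_succ']
      group
  refine card_eq_of_irreducible_comm hpq (fun a => Subtype.ext (by simpa using hAq a a.2)) σ ?_ ?_ ?_
  · intro a
    apply Subtype.ext
    rw [hiter, hxp a a.2]
  · obtain ⟨a, ha, hne⟩ := hx1
    exact ⟨⟨a, ha⟩, fun h => hne (congrArg Subtype.val h)⟩
  · intro B hB
    rcases hmin (B.map A.subtype) (map_subtype_le B) (by
      rintro _ ⟨b, hb, rfl⟩
      exact ⟨σ b, hB b hb, rfl⟩) with h | h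
    · left
      rwa [Subgroup.map_eq_bot_iff_of_injective _ A.subtype_injective] at h
    · right
      rw [eq_top_iff]
      intro a _
      have : (a : G) ∈ B.map A.subtype := by rw [h]; exact a.2
      obtain ⟨b, hb, hba⟩ := this
      have : b = a := Subtype.ext hba
      exact this ▸ hb

end Cfsg.Agent.Lib.Helper64
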