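import Mathlib

set_option autoImplicit false

namespace Cfsg.Agent.Lib.Helper64

open Polynomial

theorem natDegree_irreducible_factor_cyclotomic {q p : ℕ} [Fact q.Prime] [Fact p.Prime]
    (hpq : q ≠ p) (P : (ZMod q)[X]) (hP : P ∣ cyclotomic p (ZMod q)) (hirr : Irreducible P) :
    P.natDegree = orderOf (q : ZMod p) := by
  have hcop : q.Coprime p := (Nat.coprime_primes Fact.out Fact.out).2 hpq
  have h := natDegree_of_dvd_cyclotomic_of_irreducible (K := ZMod q) (p := q) (f := 1) (n := p)
    (by simp [ZMod.card]) hcop hP hirr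
  rw [h, ← orderOf_units]
  simp [ZMod.coe_unitOfCoprime]

theorem aeval_comm_apply {K V : Type*} [Field K] [AddCommGroup V] [Module K V] (f : V →ₗ[K] V)
    (g : K[X]) (v : V) : aeval f g (f v) = f (aeval f g v) := by
  have h1 : aeval f (g * X) = aeval f g * f := by rw [map_mul, aeval_X]
  have h2 : aeval f (X * g) = f * aeval f g := by rw [map_mul, aeval_X]
  rw [mul_comm] at h1
  have := h1.symm.trans h2
  exact congrArg (fun φ : V →ₗ[K] V => φ v) this

/-- An irreducible linear action of an element of prime order `p` on a nonzero `𝔽_q`-space,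
`q ≠ p`, which is nontrivial, has dimension the order of `q` modulo `p`. -/
theorem finrank_eq_orderOf_of_irreducible {q p : ℕ} [Fact q.Prime] [Fact p.Prime] (hpq : q ≠ p)
    {V : Type*} [AddCommGroup V] [Module (ZMod q) V] [Module.Finite (ZMod q) V] [Nontrivial V]
    (f : V →ₗ[ZMod q] V) (hfp : f ^ p = 1) (hf1 : f ≠ 1)
    (hirr : ∀ W : Submodule (ZMod q) V, (∀ v ∈ W, f v ∈ W) → W = ⊥ ∨ W = ⊤) :
    Module.finrank (ZMod q) V = orderOf (q : ZMod p) := by
  have hker : ∀ g : (ZMod q)[X], LinearMap.ker (aeval f g) = ⊥ ∨ LinearMap.ker (aeval f g) = ⊤ := by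
    intro g
    apply hirr
    intro v hv
    rw [LinearMap.mem_ker] at hv ⊢
    rw [aeval_comm_apply, hv, map_zero]
  have hzero_of_mul : ∀ a b : (ZMod q)[X], aeval f (a * b) = 0 → LinearMap.ker (aeval f a) = ⊥ →
      aeval f b = 0 := by
    intro a b hab ha
    ext v
    have h1 : aeval f a (aeval f b v) = 0 := by
      have := congrArg (fun φ : V →ₗ[ZMod q] V => φ v) hab
      simpa [map_mul] using this
    have h2 : aeval f b v ∈ LinearMap.ker (aeval f a) := h1
    rw [ha] at h2
    simpa using h2
  -- f - 1 is injective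
  have h1 : LinearMap.ker (aeval f (X - 1 : (ZMod q)[X])) = ⊥ := by
    rcases hker (X - 1) with h | h
    · exact h
    · exfalso
      apply hf1
      rw [LinearMap.ker_eq_top] at h
      simp only [map_sub, aeval_X, map_one] at h
      exact sub_eq_zero.1 h
  have hΦ : aeval f (cyclotomic p (ZMod q)) = 0 := by
    apply hzero_of_mul (X - 1) _ _ h1
    rw [mul_comm, cyclotomic_prime_mul_X_sub_one]
    simp [hfp]
  have hint : IsIntegral (ZMod q) f := Algebra.IsIntegral.isIntegral f
  set μ := minpoly (ZMod q) f with hμ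
  have hμmonic : μ.Monic := minpoly.monic hint
  have hμΦ : μ ∣ cyclotomic p (ZMod q) := minpoly.dvd _ _ hΦ
  have hμ0 : aeval f μ = 0 := minpoly.aeval _ _
  obtain ⟨P, hPirr, hPμ⟩ := WfDvdMonoid.exists_irreducible_factor (minpoly.not_isUnit (ZMod q) f)
    hμmonic.ne_zero
  have hdeg : μ.natDegree = P.natDegree := by
    rcases hker P with h | h
    · exfalso
      obtain ⟨R, hR⟩ := hPμ
      have hR0 : aeval f R = 0 := hzero_of_mul P R (by rw [← hR]; exact hμ0) h
      have hRne : R ≠ 0 := by
        rintro rfl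
        rw [mul_zero] at hR
        exact hμmonic.ne_zero hR
      have hdvd : μ ∣ R := minpoly.dvd _ _ hR0
      have hle := natDegree_le_of_dvd hdvd hRne
      have hadd : μ.natDegree = P.natDegree + R.natDegree := by
        rw [← hμ] at hR
        rw [hR, natDegree_mul hPirr.ne_zero hRne]
      have hpos : 0 < P.natDegree := hPirr.natDegree_pos
      omega
    · rw [LinearMap.ker_eq_top] at h
      have hdvd : μ ∣ P := minpoly.dvd _ _ h
      exact le_antisymm (natDegree_le_of_dvd hdvd hPirr.ne_zero)
        (natDegree_le_of_dvd hPμ hμmonic.ne_zero)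
  have hdeg' : μ.natDegree = orderOf (q : ZMod p) := by
    rw [hdeg]
    exact natDegree_irreducible_factor_cyclotomic hpq P (hPμ.trans hμΦ) hPirr
  rw [← hdeg']
  apply le_antisymm
  · -- cyclic vector
    obtain ⟨v, hv⟩ := exists_ne (0 : V)
    let φ : (ZMod q)[X] →ₗ[ZMod q] V := (LinearMap.applyₗ v).comp (aeval f).toLinearMap
    have hφ : ∀ g, φ g = aeval f g v := fun g => rfl
    have hrange : LinearMap.range φ = ⊤ := by
      rcases hirr (LinearMap.range φ) (by
        rintro _ ⟨g, rfl⟩
        refine ⟨X * g, ?_⟩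
        rw [hφ, hφ, map_mul, aeval_X]
        rfl) with h | h
      · exfalso
        apply hv
        have : v ∈ LinearMap.range φ := ⟨1, by rw [hφ, map_one]; rfl⟩
        rw [h] at this
        simpa using this
      · exact h
    have hmap : (degreeLT (ZMod q) μ.natDegree).map φ = ⊤ := by
      rw [eq_top_iff, ← hrange]
      rintro _ ⟨g, rfl⟩
      refine ⟨g %ₘ μ, ?_, ?_⟩
      · rw [SetLike.mem_coe, mem_degreeLT]
        calc (g %ₘ μ).degree < μ.degree := degree_modByMonic_lt g hμmonic
          _ = μ.natDegree := degree_eq_natDegree hμmonic.ne_zero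
      · rw [hφ, hφ, aeval_modByMonic_eq_self_of_root hμ0]
    calc Module.finrank (ZMod q) V = Module.finrank (ZMod q) (⊤ : Submodule (ZMod q) V) := (finrank_top _ _).symm
      _ = Module.finrank (ZMod q) ((degreeLT (ZMod q) μ.natDegree).map φ) := by rw [hmap]
      _ ≤ Module.finrank (ZMod q) (degreeLT (ZMod q) μ.natDegree) := by
          have : Module.Finite (ZMod q) (degreeLT (ZMod q) μ.natDegree) :=
            Module.Finite.equiv (degreeLTEquiv (ZMod q) μ.natDegree).symm
          exact Submodule.finrank_map_le φ _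
      _ = μ.natDegree := by
          rw [(degreeLTEquiv (ZMod q) μ.natDegree).finrank_eq, Module.finrank_fin_fun]
  · have h2 := LinearMap.minpoly_dvd_charpoly f
    have h3 := natDegree_le_of_dvd h2 (LinearMap.charpoly_monic f).ne_zero
    rwa [LinearMap.charpoly_natDegree] at h3

end Cfsg.Agent.Lib.Helper64
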