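import Mathlib
import Cfsg.Agent.Lib.Helper83.McBase

set_option autoImplicit false

namespace Cfsg.Agent.Lib.Helper64.Mc

open Module Cfsg.Agent.Lib.Helper83.Mc

variable {p : ℕ} [Fact p.Prime] {M N : Type*} [AddCommGroup M] [Module (ZMod p) M]
  [AddCommGroup N] [Module (ZMod p) N]
  {B : N →ₗ[ZMod p] M →ₗ[ZMod p] ZMod p} {A : M → N → Prop}

theorem exists_both (S : Sys B A) (u v : M) (hu : ∃ χ, B χ u ≠ 0) (hv : ∃ χ, B χ v ≠ 0) :
    ∃ y ψ, A y ψ ∧ y ≠ 0 ∧ B ψ u ≠ 0 ∧ B ψ v ≠ 0 := by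
  by_contra hcon
  have star : ∀ y ψ, A y ψ → y ≠ 0 → B ψ u ≠ 0 → B ψ v = 0 := by
    intro y ψ h1 h2 h3
    by_contra h4
    exact hcon ⟨y, ψ, h1, h2, h3, h4⟩
  let Gen : Set N := {ψ | (∃ y, y ≠ 0 ∧ A y ψ) ∧ B ψ u ≠ 0}
  let X : Submodule (ZMod p) N := Submodule.span (ZMod p) Gen
  have kill : ∀ (w : M), (∀ ψ ∈ Gen, B ψ w = 0) → ∀ ψ ∈ X, B ψ w = 0 := by
    intro w hw ψ hψ
    induction hψ using Submodule.span_induction with
    | mem x hx => exact hw x hx
    | zero => simp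
    | add x y _ _ hx hy => simp [hx, hy]
    | smul a x _ hx => simp [hx]
  have hXv : ∀ ψ ∈ X, B ψ v = 0 := kill v (by
    rintro ψ ⟨⟨y, hy, hA⟩, hψu⟩
    exact star y ψ hA hy hψu)
  have hq : ∀ w χ, A w χ → χ ∈ X ∨ ∀ ψ ∈ X, B ψ w = 0 := by
    intro w χ hA
    by_cases hw : w = 0
    · right; intro ψ _; simp [hw]
    by_cases hall : ∀ ψ ∈ Gen, B ψ w = 0
    · right; exact kill w hall
    left
    push Not at hall
    obtain ⟨ψ, ⟨⟨y, hy, hAy⟩, hψu⟩, hψw⟩ := hall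
    by_cases hχu : B χ u = 0
    · have hr := S.refl w χ y ψ hA hAy
      have hτ : y + B χ y • w ≠ 0 := by
        intro h0
        have h1 := congrArg (B χ) h0
        simp only [map_add, map_smul, smul_eq_mul, S.perp w χ hA, mul_zero, add_zero,
          map_zero] at h1
        rw [h1, zero_smul, add_zero] at h0
        exact hy h0
      have h2 : B (ψ - B ψ w • χ) u ≠ 0 := by
        simp only [map_sub, map_smul, LinearMap.sub_apply, LinearMap.smul_apply, smul_eq_mul, hχu,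
          mul_zero, sub_zero]
        exact hψu
      have hm2 : ψ - B ψ w • χ ∈ X := Submodule.subset_span ⟨⟨_, hτ, hr⟩, h2⟩
      have hm1 : ψ ∈ X := Submodule.subset_span ⟨⟨y, hy, hAy⟩, hψu⟩
      have hm3 : B ψ w • χ ∈ X := by
        have := X.sub_mem hm1 hm2
        simpa using this
      exact (X.smul_mem_iff hψw).1 hm3
    · exact Submodule.subset_span ⟨⟨w, hw, hA⟩, hχu⟩
  rcases S.qirr X hq with hX | hX
  · obtain ⟨χ, hχ⟩ := hv
    exact hχ (hXv χ (by rw [hX]; trivial))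
  · have hGen : ∀ y ψ, y ≠ 0 → A y ψ → B ψ u = 0 := by
      intro y ψ hy hA
      by_contra h
      exact h (hX ψ (Submodule.subset_span ⟨⟨y, hy, hA⟩, h⟩) u)
    have hq2 : ∀ w χ, A w χ → χ ∈ LinearMap.ker (B.flip u) ∨
        ∀ ψ ∈ LinearMap.ker (B.flip u), B ψ w = 0 := by
      intro w χ hA
      by_cases hw : w = 0
      · right; intro ψ _; simp [hw]
      · left
        rw [LinearMap.mem_ker, LinearMap.flip_apply]
        exact hGen w χ hw hA
    rcases S.qirr _ hq2 with hK | hK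
    · obtain ⟨χ, hχ⟩ := hu
      have : χ ∈ LinearMap.ker (B.flip u) := by rw [hK]; trivial
      rw [LinearMap.mem_ker, LinearMap.flip_apply] at this
      exact hχ this
    · obtain ⟨u₁, φ₁, hA, hu₁, hφ₁⟩ := S.nt
      have h1 : φ₁ ∈ LinearMap.ker (B.flip u) := by
        rw [LinearMap.mem_ker, LinearMap.flip_apply]
        exact hGen u₁ φ₁ hu₁ hA
      exact hφ₁ (S.r1r u₁ φ₁ hA hu₁ (hK φ₁ h1))

end Cfsg.Agent.Lib.Helper64.Mc
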