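import Mathlib
import Cfsg.Agent.Lib.Helper83.McBase

set_option autoImplicit false

namespace Cfsg.Agent.Lib.Helper64.Mc

open Module Cfsg.Agent.Lib.Helper83.Mc

variable {p : ℕ} [Fact p.Prime] {M N : Type*} [AddCommGroup M] [Module (ZMod p) M]
  [AddCommGroup N] [Module (ZMod p) N]
  {B : N →ₗ[ZMod p] M →ₗ[ZMod p] ZMod p} {A : M → N → Prop}

theorem local_dich [Finite M] (S : Sys B A) (hs' : Sym B.flip (Fl A))
    (hP' : ∀ φ, φ ≠ 0 → Pt (Fl A) φ) (hsurj : Function.Surjective B) (u : M) (hu : u ≠ 0) :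
    (∀ χ, B χ u = 0 → A u χ) ∨ (∀ φ w, A u φ → φ ≠ 0 → A w φ → ∃ c : ZMod p, w = c • u) := by
  have claim : ∀ χ, B χ u = 0 → A u χ ∨ ∀ φ w', φ ≠ 0 → A u φ → A w' φ → B χ w' = 0 := by
    intro χ hχu
    by_contra hcon
    push Not at hcon
    obtain ⟨hnA, φ, w', hφ, hAu, hAw', hχw'⟩ := hcon
    have hχ : χ ≠ 0 := by
      rintro rfl
      simp at hχw'
    obtain ⟨-, w'', hw'', hAw''⟩ := hP' χ hχ
    obtain ⟨w, hAw, hφw⟩ := hs' φ χ w' w'' hφ hAw' (by simpa using hχw') hAw'' hw''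
    exact hnA (S.club hAu (by simpa using hφw) hAw hχu)
  by_cases h1 : ∀ χ, B χ u = 0 → A u χ
  · exact Or.inl h1
  right
  push Not at h1
  obtain ⟨χ₁, hχ₁u, hχ₁⟩ := h1
  have hP2₁ := (claim χ₁ hχ₁u).resolve_left hχ₁
  have h2 : ∀ χ, B χ u = 0 → ∀ φ w', φ ≠ 0 → A u φ → A w' φ → B χ w' = 0 := by
    intro χ₂ hχ₂u
    rcases claim χ₂ hχ₂u with hA2 | h
    swap
    · exact h
    rcases claim (χ₁ + χ₂) (by simp [hχ₁u, hχ₂u]) with h3 | h3
    · exfalso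
      apply hχ₁
      have := S.subr h3 hA2
      simpa using this
    · intro φ w' hφ hAu hAw'
      have e1 := h3 φ w' hφ hAu hAw'
      have e2 := hP2₁ φ w' hφ hAu hAw'
      simpa [e2] using e1
  intro φ w hAu hφ hAw
  by_contra hcon
  have hw : w ∉ Submodule.span (ZMod p) {u} := by
    intro hmem
    obtain ⟨c, hc⟩ := Submodule.mem_span_singleton.1 hmem
    exact hcon ⟨c, hc.symm⟩
  obtain ⟨f, hfw, hf⟩ := Submodule.exists_le_ker_of_notMem hw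
  obtain ⟨χ, rfl⟩ := hsurj f
  have hχu : B χ u = 0 := hf (Submodule.mem_span_singleton_self u)
  exact hfw (h2 χ hχu φ w hφ hAu hAw)

end Cfsg.Agent.Lib.Helper64.Mc
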