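import Mathlib
import Cfsg.Agent.Lib.Helper64.MetaOmega
import Cfsg.Agent.Lib.Helper64.MetaSub

set_option autoImplicit false

/-! Metacyclic `2`-groups containing a dihedral or quaternion group of order `8` have commutator
index `4` (helper64). -/

namespace Cfsg.Agent.Lib.Helper64

open Subgroup

variable {G : Type*} [Group G]

theorem arith_inv {κ s : ℕ} (h2 : 2 ∣ κ) (h4 : 4 ∣ (1 + κ) ^ s + 1) : s % 2 = 1 ∧ κ % 4 = 2 := by
  have h4' : ((1 + κ) ^ s + 1) % 4 = 0 := Nat.mod_eq_zero_of_dvd h4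
  rw [Nat.add_mod, Nat.pow_mod] at h4'
  have hκ : κ % 4 = 0 ∨ κ % 4 = 2 := by omega
  rcases hκ with hκ | hκ
  · exfalso
    have : (1 + κ) % 4 = 1 := by omega
    rw [this, one_pow] at h4'
    norm_num at h4'
  · refine ⟨?_, hκ⟩
    by_contra hs
    obtain ⟨t, rfl⟩ : ∃ t, s = 2 * t := ⟨s / 2, by omega⟩
    have : (1 + κ) % 4 = 3 := by omega
    rw [this, pow_mul, Nat.pow_mod] at h4'
    norm_num at h4'

namespace MetaData

variable {a b : G} {κ m k n : ℕ}

theorem mem_iff (D : MetaData 2 a b κ m k n) (j s : ℕ) :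
    a ^ j * b ^ s ∈ zpowers a ↔ 2 ^ k ∣ s := by
  rw [(zpowers a).mul_mem_cancel_left (Subgroup.pow_mem _ (mem_zpowers a) j), D.hb]

theorem mul_mem_iff (D : MetaData 2 a b κ m k n) (j s l r : ℕ) :
    (a ^ j * b ^ s) * (a ^ l * b ^ r) ∈ zpowers a ↔ 2 ^ k ∣ s + r := by
  rw [D.mul_formula, (zpowers a).mul_mem_cancel_left
    (Subgroup.pow_mem _ (Subgroup.pow_mem _ (mem_zpowers a) κ) _), D.mem_iff]

theorem index_commutator_of_inverts [Finite G] (D : MetaData 2 a b κ m k n) {u v : G}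
    (hu : u ∈ zpowers a) (hu2 : u ^ 2 ≠ 1) (hv : v * u * v⁻¹ = u⁻¹) (hv2 : v ^ 2 ∈ zpowers a) :
    (commutator G).index = 4 ∧ Nat.card G ≠ 4 := by
  have : Fact (Nat.Prime 2) := ⟨Nat.prime_two⟩
  obtain ⟨e, hem, he⟩ := (Nat.dvd_prime_pow Nat.prime_two).1 (D.ha ▸ orderOf_dvd_of_mem_zpowers hu)
  have he2 : 2 ≤ e := by
    by_contra hlt
    apply hu2
    rw [← orderOf_dvd_iff_pow_eq_one, he]
    have : e = 0 ∨ e = 1 := by omega
    rcases this with rfl | rfl <;> norm_num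
  obtain ⟨j, rfl⟩ := exists_pow_of_mem_zpowers hu
  obtain ⟨l, s, rfl⟩ := D.gen v
  rw [D.conj_pow_a] at hv
  have h1 : (a ^ j) ^ ((1 + κ) ^ s + 1) = 1 := by
    rw [pow_succ, hv, inv_mul_cancel]
  have h4 : 4 ∣ (1 + κ) ^ s + 1 := by
    rw [← orderOf_dvd_iff_pow_eq_one, he] at h1
    refine dvd_trans ?_ h1
    exact ⟨2 ^ (e - 2), by rw [show (4 : ℕ) = 2 ^ 2 by norm_num, ← pow_add]; congr 1; omega⟩
  obtain ⟨hs, hκ⟩ := arith_inv D.dvd h4
  rw [sq, D.mul_mem_iff] at hv2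
  have hk1 : k ≤ 1 := by
    by_contra hlt
    have h44 : 4 ∣ s + s := by
      refine dvd_trans ?_ hv2
      exact ⟨2 ^ (k - 2), by rw [show (4 : ℕ) = 2 ^ 2 by norm_num, ← pow_add]; congr 1; omega⟩
    omega
  have hk0 : k ≠ 0 := by
    rintro rfl
    have hb : b ∈ zpowers a := by
      have := (D.hb 1).2 (by simp)
      simpa using this
    obtain ⟨i, hi⟩ := exists_pow_of_mem_zpowers hb
    have h3 := D.conj
    rw [hi] at h3
    have h5 : a ^ i * a * (a ^ i)⁻¹ = a := by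
      rw [← pow_succ, pow_succ', mul_inv_cancel_right]
    rw [h5] at h3
    -- `a ^ κ = 1`
    have h6 : a ^ κ = 1 := by
      rw [pow_add, pow_one] at h3
      exact (mul_eq_left.1 h3.symm)
    rw [← orderOf_dvd_iff_pow_eq_one, D.ha] at h6
    have h7 : 4 ∣ κ := by
      refine dvd_trans ?_ h6
      exact ⟨2 ^ (m - 2), by rw [show (4 : ℕ) = 2 ^ 2 by norm_num, ← pow_add]; congr 1; omega⟩
    omega
  have hk : k = 1 := by omega
  subst hk
  have hn : n + 1 = m := by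
    have h3 := D.hd
    obtain ⟨q, hq⟩ : ∃ q, κ = 2 * q := D.dvd
    have hqodd : q % 2 = 1 := by omega
    obtain ⟨m', rfl⟩ : ∃ m', m = m' + 1 := ⟨m - 1, by omega⟩
    rw [orderOf_pow' _ (by omega), D.ha, hq, pow_succ', Nat.gcd_mul_left] at h3
    have hcop : Nat.gcd (2 ^ m') q = 1 := by
      apply Nat.Coprime.pow_left
      rw [Nat.coprime_two_left]
      exact Nat.odd_iff.2 hqodd
    rw [hcop, mul_one, Nat.mul_div_cancel_left _ (by norm_num)] at h3
    have := Nat.pow_right_injective (le_refl 2) h3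
    omega
  constructor
  · rw [D.index_commutator]
    have : m + 1 - n = 2 := by omega
    rw [this]
    norm_num
  · rw [D.card_eq]
    obtain ⟨m', rfl⟩ : ∃ m', m = m' + 2 := ⟨m - 2, by omega⟩
    have : 0 < 2 ^ m' := by positivity
    rw [pow_add]
    omega

theorem index_commutator_aux [Finite G] (D : MetaData 2 a b κ m k n) {u v : G}
    (hu2 : u ^ 2 ≠ 1) (hu4 : u ^ 4 = 1) (hv : v * u * v⁻¹ = u⁻¹) (hv2 : v ^ 2 = 1 ∨ v ^ 2 = u ^ 2)
    (hvN : v ∈ zpowers a) (hu2N : u ^ 2 ∈ zpowers a) :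
    (commutator G).index = 4 ∧ Nat.card G ≠ 4 := by
  rcases hv2 with hv2 | hv2
  · exfalso
    have h1 := D.conj_eq_self_of_pow_eq_one hvN hv2 u
    apply hu2
    have h2 : v * u * v⁻¹ = u := by
      have : u * v = v * u := by
        calc u * v = (u * v * u⁻¹) * u := by group
          _ = v * u := by rw [h1]
      rw [← this]; group
    rw [h2] at hv
    rw [sq]
    nth_rewrite 1 [hv]
    exact inv_mul_cancel u
  · apply D.index_commutator_of_inverts hvN (hv2 ▸ hu2) _ hu2N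
    have h1 : v * u⁻¹ = u * v := by
      calc v * u⁻¹ = (v * u * v⁻¹)⁻¹ * v := by group
        _ = u * v := by rw [hv, inv_inv]
    have hv4 : v ^ 4 = 1 := by
      rw [show 4 = 2 * 2 by norm_num, pow_mul, hv2, ← pow_mul]
      exact hu4
    calc u * v * u⁻¹ = u * (v * u⁻¹) := by group
      _ = u ^ 2 * v := by rw [h1, sq, mul_assoc]
      _ = v ^ 3 := by rw [← hv2, ← pow_succ]
      _ = v⁻¹ := by
          rw [eq_inv_iff_mul_eq_one, ← pow_succ]
          exact hv4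

end MetaData

/-- A metacyclic `2`-group containing `D₈` or `Q₈` has commutator index `4`. -/
theorem index_commutator_of_dq [Finite G] (hG : IsPGroup 2 G) (hm : Cfsg.IsMetacyclic G) {u v : G}
    (hu2 : u ^ 2 ≠ 1) (hu4 : u ^ 4 = 1) (hv : v * u * v⁻¹ = u⁻¹)
    (hv2 : v ^ 2 = 1 ∨ v ^ 2 = u ^ 2) : (commutator G).index = 4 ∧ Nat.card G ≠ 4 := by
  have : Fact (Nat.Prime 2) := ⟨Nat.prime_two⟩
  obtain ⟨a, b, κ, m, k, n, D⟩ := exists_metaData hG hm
  have hu2N : u ^ 2 ∈ zpowers a := by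
    have h1 := D.commutator_mem' v u
    rw [hv] at h1
    have h2 : u ^ 2 = (u⁻¹ * u⁻¹)⁻¹ := by group
    rw [h2]
    exact (zpowers a).inv_mem h1
  have hv2N : v ^ 2 ∈ zpowers a := by
    rcases hv2 with h | h
    · rw [h]; exact one_mem _
    · rw [h]; exact hu2N
  have hcases : u ∈ zpowers a ∨ v ∈ zpowers a ∨ u * v ∈ zpowers a := by
    obtain ⟨j1, s1, h1⟩ := D.gen u
    obtain ⟨j2, s2, h2⟩ := D.gen v
    rw [h1, sq, D.mul_mem_iff] at hu2N
    rw [h2, sq, D.mul_mem_iff] at hv2N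
    rw [h1, h2, D.mem_iff, D.mem_iff, D.mul_mem_iff]
    rcases k with _ | k
    · left; simp
    · rw [pow_succ, ← two_mul, mul_comm] at hu2N hv2N
      obtain ⟨q1, rfl⟩ := Nat.dvd_of_mul_dvd_mul_left (by norm_num) hu2N
      obtain ⟨q2, rfl⟩ := Nat.dvd_of_mul_dvd_mul_left (by norm_num) hv2N
      rcases Nat.even_or_odd' q1 with ⟨t1, rfl | rfl⟩
      · left; exact ⟨t1, by ring⟩
      · rcases Nat.even_or_odd' q2 with ⟨t2, rfl | rfl⟩
        · right; left; exact ⟨t2, by ring⟩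
        · right; right; exact ⟨t1 + t2 + 1, by ring⟩
  rcases hcases with h | h | h
  · exact D.index_commutator_of_inverts h hu2 hv hv2N
  · exact D.index_commutator_aux hu2 hu4 hv hv2 h hu2N
  · have hv' : (u * v) * u * (u * v)⁻¹ = u⁻¹ := by
      calc (u * v) * u * (u * v)⁻¹ = u * (v * u * v⁻¹) * u⁻¹ := by group
        _ = u⁻¹ := by rw [hv]; group
    have hsq : (u * v) ^ 2 = v ^ 2 := by
      calc (u * v) ^ 2 = u * (v * u * v⁻¹) * v ^ 2 := by rw [sq, sq]; group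
        _ = v ^ 2 := by rw [hv]; group
    exact D.index_commutator_aux hu2 hu4 hv' (hsq.symm ▸ hv2) h hu2N

end Cfsg.Agent.Lib.Helper64
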