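import Mathlib

set_option autoImplicit false

namespace Cfsg.Agent.Lib.Helper64.NS23

/-- the ambient group `(V → F₂) ⋊ G` -/
@[ext] structure Pre {G V : Type} [Group G] [AddCommGroup V] (act : G → V →+ V)
    (act_one : ∀ x, act 1 x = x) (act_mul : ∀ g h x, act (g * h) x = act h (act g x)) where
  /-- function part -/
  f : V → ZMod 2
  /-- group part -/
  g : G

namespace Pre

variable {G V : Type} [Group G] [AddCommGroup V] {act : G → V →+ V}
    {act_one : ∀ x, act 1 x = x} {act_mul : ∀ g h x, act (g * h) x = act h (act g x)}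

instance instMulPre : Mul (Pre act act_one act_mul) :=
  ⟨fun a b => ⟨fun x => a.f x + b.f (act a.g x), a.g * b.g⟩⟩
instance instOnePre : One (Pre act act_one act_mul) := ⟨⟨fun _ => 0, 1⟩⟩
instance instInvPre : Inv (Pre act act_one act_mul) :=
  ⟨fun a => ⟨fun x => a.f (act a.g⁻¹ x), a.g⁻¹⟩⟩

@[simp] theorem mul_f (a b : Pre act act_one act_mul) (x : V) :
    (a * b).f x = a.f x + b.f (act a.g x) := rfl
@[simp] theorem mul_g (a b : Pre act act_one act_mul) : (a * b).g = a.g * b.g := rfl
@[simp] theorem one_f (x : V) : (1 : Pre act act_one act_mul).f x = 0 := rfl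
@[simp] theorem one_g : (1 : Pre act act_one act_mul).g = 1 := rfl
@[simp] theorem inv_f (a : Pre act act_one act_mul) (x : V) :
    (a⁻¹).f x = a.f (act a.g⁻¹ x) := rfl
@[simp] theorem inv_g (a : Pre act act_one act_mul) : (a⁻¹).g = a.g⁻¹ := rfl

instance instGroupPre : Group (Pre act act_one act_mul) := Group.ofLeftAxioms
  (fun a b c => by ext x <;> simp [act_mul, add_assoc, mul_assoc])
  (fun a => by ext x <;> simp [act_one])
  (fun a => by ext x <;> simp [CharTwo.add_self_eq_zero])

theorem finite_pre [Finite G] [Finite V] : Finite (Pre act act_one act_mul) :=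
  Finite.of_injective (fun a : Pre act act_one act_mul => (a.f, a.g)) (by
    intro a b h
    simp only [Prod.mk.injEq] at h
    exact Pre.ext h.1 h.2)

/-- the extension as a subgroup of `Pre` -/
def extn (act_one : ∀ x, act 1 x = x) (act_mul : ∀ g h x, act (g * h) x = act h (act g x))
    (θ : V → V → ZMod 2) : Subgroup (Pre act act_one act_mul) where
  carrier := {a | ∀ x y, a.f (x + y) + a.f x + a.f y = θ (act a.g x) (act a.g y) + θ x y}
  one_mem' := by
    intro x y
    simp [act_one, CharTwo.add_self_eq_zero]
  mul_mem' := by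
    intro a b ha hb x y
    have h1 := ha x y
    have h2 := hb (act a.g x) (act a.g y)
    have h3 : θ (act a.g x) (act a.g y) + θ (act a.g x) (act a.g y) = 0 :=
      CharTwo.add_self_eq_zero _
    simp only [mul_f, mul_g, act_mul, map_add]
    linear_combination h1 + h2 + h3
  inv_mem' := by
    intro a ha x y
    have h1 := ha (act a.g⁻¹ x) (act a.g⁻¹ y)
    have h2 : ∀ z, act a.g (act a.g⁻¹ z) = z := fun z => by
      rw [← act_mul, inv_mul_cancel, act_one]
    rw [h2, h2] at h1
    simp only [inv_f, inv_g, map_add]
    linear_combination h1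

theorem mem_extn {θ : V → V → ZMod 2} {a : Pre act act_one act_mul} :
    a ∈ extn act_one act_mul θ ↔
      ∀ x y, a.f (x + y) + a.f x + a.f y = θ (act a.g x) (act a.g y) + θ x y := Iff.rfl

/-- projection to `G` -/
def proj (act_one : ∀ x, act 1 x = x) (act_mul : ∀ g h x, act (g * h) x = act h (act g x))
    (θ : V → V → ZMod 2) : extn act_one act_mul θ →* G where
  toFun a := a.1.g
  map_one' := rfl
  map_mul' _ _ := rfl

end Pre

open Pre in
/-- abstract construction of a non-split extension of `G` by `Hom(V, F₂)` from a "loop cocycle"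
`θ` and a `Q₈`-certificate -/
theorem abs_nonsplit {G V W : Type} [Group G] [Finite G] [AddCommGroup V] [Finite V]
    [AddCommGroup W]
    (act : G → V →+ V) (act_one : ∀ x, act 1 x = x)
    (act_mul : ∀ g h x, act (g * h) x = act h (act g x))
    (θ : V → V → ZMod 2)
    (hex : ∀ g : G, ∃ f : V → ZMod 2, ∀ x y,
      f (x + y) + f x + f y = θ (act g x) (act g y) + θ x y)
    (pair : W →+ (V →+ ZMod 2)) (hpair : Function.Surjective pair)
    (actW : G → W → W) (hactW : ∀ g w x, pair (actW g w) x = pair w (act g x))
    (s t : G) (hst1 : s * s = t * t) (hst2 : s * t * s = t)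
    (z1 z2 : V)
    (hz1 : z1 + act s z1 = z2 + act t (act s z2))
    (hz2 : z1 + act t z1 = act s z2 + z2)
    (hval : (θ (act s z1) (act s (act s z1)) + θ z1 (act s z1))
          + (θ (act s z2) (act s (act t (act s z2))) + θ z2 (act t (act s z2)))
          + (θ (act t z1) (act t (act t z1)) + θ z1 (act t z1))
          + (θ (act t (act s z2)) (act t z2) + θ (act s z2) z2) = 1) :
    ∃ (E : Type) (_ : Group E) (_ : Finite E) (N : Subgroup E) (_ : N.Normal)
      (φ : E ⧸ N ≃* G) (θ' : W →+ Additive ↥N),
      Function.Surjective θ' ∧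
      (∀ w : W, θ' w = 0 ↔ pair w = 0) ∧
      (∀ (g : E) (w : W),
        ((θ' (actW (φ (QuotientGroup.mk g)) w)).toMul : E) = g * ((θ' w).toMul : E) * g⁻¹) ∧
      ∀ H : Subgroup E, H ⊓ N = ⊥ → H ⊔ N ≠ ⊤ := by
  classical
  have hfin : Finite (Pre act act_one act_mul) := finite_pre
  have hsurj : Function.Surjective (proj act_one act_mul θ) := by
    intro g
    obtain ⟨f, hf⟩ := hex g
    exact ⟨⟨⟨f, g⟩, hf⟩, rfl⟩
  have hmemE : ∀ w : W, (⟨pair w, 1⟩ : Pre act act_one act_mul) ∈ extn act_one act_mul θ := by
    intro w x y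
    simp only [map_add, act_one]
    have h1 : pair w x + pair w x = 0 := CharTwo.add_self_eq_zero _
    have h2 : pair w y + pair w y = 0 := CharTwo.add_self_eq_zero _
    have h3 : θ x y + θ x y = 0 := CharTwo.add_self_eq_zero _
    linear_combination h1 + h2 - h3
  let θ' : W →+ Additive ↥(proj act_one act_mul θ).ker :=
    { toFun := fun w => Additive.ofMul ⟨⟨⟨pair w, 1⟩, hmemE w⟩, rfl⟩
      map_zero' := by
        apply Additive.toMul.injective
        apply Subtype.ext
        apply Subtype.ext
        apply Pre.ext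
        · funext x; simp
        · rfl
      map_add' := by
        intro w w'
        apply Additive.toMul.injective
        apply Subtype.ext
        apply Subtype.ext
        apply Pre.ext
        · funext x; simp [act_one]
        · simp }
  refine ⟨extn act_one act_mul θ, inferInstance, inferInstance, (proj act_one act_mul θ).ker,
    inferInstance, QuotientGroup.quotientKerEquivOfSurjective _ hsurj, θ', ?_, ?_, ?_, ?_⟩
  · intro n
    obtain ⟨⟨⟨f, g⟩, hE⟩, hker⟩ := n
    have hg : g = 1 := hker
    subst hg
    have hadd : ∀ x y, f (x + y) = f x + f y := by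
      intro x y
      have h := hE x y
      simp only [act_one] at h
      have h1 : f x + f x = 0 := CharTwo.add_self_eq_zero _
      have h2 : f y + f y = 0 := CharTwo.add_self_eq_zero _
      have h3 : θ x y + θ x y = 0 := CharTwo.add_self_eq_zero _
      linear_combination h + h3 - h1 - h2
    obtain ⟨w, hw⟩ := hpair (AddMonoidHom.mk' f hadd)
    refine ⟨w, ?_⟩
    apply Additive.toMul.injective
    apply Subtype.ext
    apply Subtype.ext
    apply Pre.ext
    · funext x
      change pair w x = f x
      rw [hw]; rfl
    · rfl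
  · intro w
    constructor
    · intro h
      have h1 := congrArg (fun n => ((Additive.toMul n : (proj act_one act_mul θ).ker) :
        Pre act act_one act_mul).f) h
      ext x
      exact congrFun h1 x
    · intro h
      rw [← map_zero θ']
      apply Additive.toMul.injective
      apply Subtype.ext
      apply Subtype.ext
      apply Pre.ext
      · funext x
        change pair w x = pair 0 x
        rw [h]; simp
      · rfl
  · intro g w
    apply Subtype.ext
    apply Pre.ext
    · funext x
      change pair (actW g.1.g w) x = _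
      rw [hactW]
      have h2 : act g.1.g⁻¹ (act g.1.g x) = x := by
        rw [← act_mul, mul_inv_cancel, act_one]
      change _ = (g.1.f x + pair w (act g.1.g x)) + g.1.f (act g.1.g⁻¹ (act (g.1.g * 1) x))
      rw [mul_one, h2]
      have h1 : g.1.f x + g.1.f x = 0 := CharTwo.add_self_eq_zero _
      linear_combination -h1
    · change (1 : G) = g.1.g * 1 * g.1.g⁻¹
      simp
  · intro H hinf hsup
    have hlift : ∀ u : G, ∃ a ∈ H, (a : Pre act act_one act_mul).g = u := by
      intro u
      obtain ⟨e, he⟩ := hsurj u
      have hmem : e ∈ H ⊔ (proj act_one act_mul θ).ker := by rw [hsup]; trivial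
      have hmem' : e ∈ ((H ⊔ (proj act_one act_mul θ).ker : Subgroup _) : Set _) := hmem
      rw [Subgroup.mul_normal] at hmem'
      obtain ⟨h, hh, n, hn, rfl⟩ := hmem'
      refine ⟨h, hh, ?_⟩
      have hn' : proj act_one act_mul θ n = 1 := hn
      have : proj act_one act_mul θ (h * n) = proj act_one act_mul θ h := by
        rw [map_mul, hn', mul_one]
      rw [← he, this]; rfl
    have htriv : ∀ e ∈ H, (e : Pre act act_one act_mul).g = 1 → e = 1 := by
      intro e he h1
      have : e ∈ H ⊓ (proj act_one act_mul θ).ker := ⟨he, h1⟩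
      rw [hinf] at this
      exact this
    obtain ⟨a, haH, ha⟩ := hlift s
    obtain ⟨b, hbH, hb⟩ := hlift t
    have e1 : a * a = b * b := by
      have := htriv (a * a * (b * b)⁻¹) (H.mul_mem (H.mul_mem haH haH)
        (H.inv_mem (H.mul_mem hbH hbH))) (by
          change a.1.g * a.1.g * (b.1.g * b.1.g)⁻¹ = 1
          rw [ha, hb, hst1, mul_inv_cancel])
      exact mul_inv_eq_one.1 this
    have e2 : a * b * a = b := by
      have := htriv (a * b * a * b⁻¹) (H.mul_mem (H.mul_mem (H.mul_mem haH hbH) haH)
        (H.inv_mem hbH)) (by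
          change a.1.g * b.1.g * a.1.g * (b.1.g)⁻¹ = 1
          rw [ha, hb, hst2, mul_inv_cancel])
      exact mul_inv_eq_one.1 this
    have E1 : a.1.f z1 + a.1.f (act s z1) = b.1.f z1 + b.1.f (act t z1) := by
      have := congrArg (fun e : extn act_one act_mul θ => e.1.f z1) e1
      change a.1.f z1 + a.1.f (act a.1.g z1) = b.1.f z1 + b.1.f (act b.1.g z1) at this
      rwa [ha, hb] at this
    have E2 : a.1.f z2 + b.1.f (act s z2) + a.1.f (act t (act s z2)) = b.1.f z2 := by
      have := congrArg (fun e : extn act_one act_mul θ => e.1.f z2) e2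
      change a.1.f z2 + b.1.f (act a.1.g z2) + a.1.f (act (a.1.g * b.1.g) z2) = b.1.f z2 at this
      rwa [ha, hb, act_mul] at this
    have M1 := a.2 z1 (act s z1)
    have M2 := a.2 z2 (act t (act s z2))
    have M3 := b.2 z1 (act t z1)
    have M4 := b.2 (act s z2) z2
    rw [ha] at M1 M2
    rw [hb] at M3 M4
    rw [← hz1] at M2
    rw [← hz2] at M4
    have h2 : (2 : ZMod 2) = 0 := by decide
    have hS : (θ (act s z1) (act s (act s z1)) + θ z1 (act s z1))
          + (θ (act s z2) (act s (act t (act s z2))) + θ z2 (act t (act s z2)))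
          + (θ (act t z1) (act t (act t z1)) + θ z1 (act t z1))
          + (θ (act t (act s z2)) (act t z2) + θ (act s z2) z2) = 0 := by
      linear_combination -M1 - M2 - M3 - M4 + E1 + E2 +
        (a.1.f (z1 + act s z1) + b.1.f (z1 + act t z1) + b.1.f z1 + b.1.f (act t z1)
          + b.1.f z2) * h2
    rw [hS] at hval
    exact zero_ne_one hval

end Cfsg.Agent.Lib.Helper64.NS23
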