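import Mathlib

set_option autoImplicit false

namespace Cfsg.Agent.Lib.Helper64.NS23

/-- an alternating biadditive form over `F₂` is the polarisation of some function -/
theorem exists_quad {V : Type} [AddCommGroup V] [Module (ZMod 2) V] (c : V → V → ZMod 2)
    (hl : ∀ x x' y, c (x + x') y = c x y + c x' y)
    (hr : ∀ x y y', c x (y + y') = c x y + c x y')
    (halt : ∀ x, c x x = 0) :
    ∃ f : V → ZMod 2, ∀ x y, f (x + y) + f x + f y = c x y := by
  classical
  have h0l : ∀ y, c 0 y = 0 := fun y => by simpa using hl 0 0 y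
  have h0r : ∀ x, c x 0 = 0 := fun x => by simpa using hr x 0 0
  have h01 : ∀ a : ZMod 2, a = 0 ∨ a = 1 := by decide
  let C : V →ₗ[ZMod 2] V →ₗ[ZMod 2] ZMod 2 := LinearMap.mk₂ (ZMod 2) c hl
    (fun a x y => by rcases h01 a with rfl | rfl <;> simp [h0l]) hr
    (fun a x y => by rcases h01 a with rfl | rfl <;> simp [h0r])
  have hsym : ∀ x y, c x y = c y x := by
    intro x y
    have h := halt (x + y)
    rw [hl, hr, hr, halt, halt] at h
    have h2 : c x y + c y x = 0 := by simpa using h
    have h3 : c y x + c y x = 0 := CharTwo.add_self_eq_zero _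
    linear_combination h2 - h3
  let bm := Module.Basis.ofVectorSpace (ZMod 2) V
  let _ : LinearOrder (Module.Basis.ofVectorSpaceIndex (ZMod 2) V) :=
    linearOrderOfSTO WellOrderingRel
  let B : V →ₗ[ZMod 2] V →ₗ[ZMod 2] ZMod 2 :=
    bm.constr (ZMod 2) (fun i => bm.constr (ZMod 2)
      (fun j => if i < j then c (bm i) (bm j) else 0))
  have key : B + B.flip = C := by
    apply bm.ext; intro i; apply bm.ext; intro j
    simp only [B, C, Module.Basis.constr_basis, LinearMap.add_apply, LinearMap.flip_apply,
      LinearMap.mk₂_apply]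
    rcases lt_trichotomy i j with h | h | h
    · simp [h, not_lt.2 h.le]
    · subst h; simp [halt]
    · simp [h, not_lt.2 h.le, hsym (bm i) (bm j)]
  refine ⟨fun x => B x x, fun x y => ?_⟩
  have h1 : B x y + B y x = c x y := by
    have := congrArg (fun T => T x y) key
    simpa [C] using this
  have h2 : B x x + B x x = 0 := CharTwo.add_self_eq_zero _
  have h3 : B y y + B y y = 0 := CharTwo.add_self_eq_zero _
  simp only [map_add, LinearMap.add_apply]
  linear_combination h1 + h2 + h3

end Cfsg.Agent.Lib.Helper64.NS23
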