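import Mathlib
import Cfsg.Prelude
import Cfsg.Agent.Lib.Helper64.MetaOmega
import Cfsg.Agent.Lib.Helper64.InvAut

set_option autoImplicit false

/-! `Ω₁(P)` for a metacyclic subgroup `P` (a `p`-group, `p` odd) of an ambient group, and the two
consequences used for strongly closed metacyclic subgroups of fusion systems (helper64). -/

namespace Cfsg.Agent.Lib.Helper64

open Subgroup

/-- a group of exponent `p` and order at most `p ^ 2` with `z ≠ 1`, `y ∉ ⟨z⟩` is abelian and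
consists of the `z ^ i * y ^ j`. -/
theorem comm_and_gen_of_card_le {E : Type*} [Group E] [Finite E] {p : ℕ} [hp : Fact p.Prime]
    (hexp : ∀ e : E, e ^ p = 1) (hcard : Nat.card E ≤ p ^ 2) (z y : E) (hz : z ≠ 1)
    (hy : y ∉ zpowers z) :
    (∀ a b : E, a * b = b * a) ∧ ∀ e : E, ∃ i j : ℕ, e = z ^ i * y ^ j := by
  have hE : IsPGroup p E := fun g => ⟨1, by rw [pow_one]; exact hexp g⟩
  have hoz : Nat.card (zpowers z) = p := by
    rw [Nat.card_zpowers]; exact orderOf_eq_prime (hexp z) hz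
  -- any subgroup containing `z` and `y` is everything
  have key : ∀ T : Subgroup E, z ∈ T → y ∈ T → p ^ 2 ≤ Nat.card T := by
    intro T hzT hyT
    obtain ⟨k, hk⟩ := (hE.to_subgroup T).exists_card_eq
    have h1 : ¬ Nat.card T ≤ p := by
      intro h
      have hle : zpowers z ≤ T := zpowers_le.2 hzT
      have := Subgroup.eq_of_le_of_card_ge hle (by rw [hoz]; exact h)
      apply hy; rw [this]; exact hyT
    rw [hk] at h1 ⊢
    apply Nat.pow_le_pow_right hp.out.pos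
    by_contra h2
    apply h1
    have : k ≤ 1 := by omega
    calc p ^ k ≤ p ^ 1 := Nat.pow_le_pow_right hp.out.pos this
      _ = p := pow_one p
  have hc2 : Nat.card E = p ^ 2 := by
    have := key ⊤ (mem_top _) (mem_top _)
    rw [Subgroup.card_top] at this
    omega
  have hcomm := IsPGroup.commutative_of_card_eq_prime_sq hc2
  refine ⟨hcomm, ?_⟩
  let T : Subgroup E := subgroupOfMulClosed {e | ∃ i j : ℕ, e = z ^ i * y ^ j} ⟨0, 0, by simp⟩ (by
    rintro _ ⟨i, j, rfl⟩ _ ⟨k, l, rfl⟩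
    refine ⟨i + k, j + l, ?_⟩
    rw [pow_add, pow_add, mul_assoc, ← mul_assoc (y ^ j), hcomm (y ^ j) (z ^ k)]
    simp only [mul_assoc])
  have hT : T = ⊤ := by
    apply Subgroup.eq_top_of_le_card
    rw [hc2]
    exact key T ⟨1, 0, by simp⟩ ⟨0, 1, by simp⟩
  intro e
  have : e ∈ T := by rw [hT]; exact mem_top e
  exact this

variable {Ω : Type*} [Group Ω]

/-- the data of `E = Ω₁(P)` and a central subgroup `Z` of `P` of order at most `p` containing
`[E, P]`. -/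
structure OmegaData (p : ℕ) (P E Z : Subgroup Ω) : Prop where
  mem_E : ∀ x, x ∈ E ↔ x ∈ P ∧ x ^ p = 1
  card_E : Nat.card E ≤ p ^ 2
  Z_le : Z ≤ E
  card_Z : Nat.card Z ≤ p
  central : ∀ z ∈ Z, ∀ g ∈ P, g * z * g⁻¹ = z
  comm_mem : ∀ e ∈ E, ∀ g ∈ P, e * g * e⁻¹ * g⁻¹ ∈ Z

theorem exists_omegaData {p : ℕ} [hp : Fact p.Prime] (hp2 : p ≠ 2) (P : Subgroup Ω) [Finite P]
    (hP : IsPGroup p P) (hm : Cfsg.IsMetacyclic P) : ∃ E Z : Subgroup Ω, OmegaData p P E Z := by
  obtain ⟨E, Z, h1, h2, h3, h4, h5, h6⟩ := exists_omega_of_isMetacyclic hp2 hP hm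
  refine ⟨E.map P.subtype, Z.map P.subtype, ?_, ?_, Subgroup.map_mono h3, ?_, ?_, ?_⟩
  · intro x
    constructor
    · rintro ⟨x, hx, rfl⟩
      refine ⟨x.2, ?_⟩
      have := (h1 x).1 hx
      simpa using congrArg Subtype.val this
    · rintro ⟨hx, hxp⟩
      exact ⟨⟨x, hx⟩, (h1 _).2 (Subtype.ext (by simpa using hxp)), rfl⟩
  · rwa [Subgroup.card_map_of_injective P.subtype_injective]
  · rwa [Subgroup.card_map_of_injective P.subtype_injective]
  · rintro _ ⟨z, hz, rfl⟩ g hg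
    simpa using congrArg Subtype.val (h5 z hz ⟨g, hg⟩)
  · rintro _ ⟨e, he, rfl⟩ g hg
    exact ⟨_, h6 e he ⟨g, hg⟩, by simp⟩

namespace OmegaData

variable {p : ℕ} {P E Z : Subgroup Ω}

theorem E_le (D : OmegaData p P E Z) : E ≤ P := fun x hx => ((D.mem_E x).1 hx).1

theorem pow_eq_one (D : OmegaData p P E Z) {x : Ω} (hx : x ∈ E) : x ^ p = 1 :=
  ((D.mem_E x).1 hx).2

theorem omegaOne_eq (D : OmegaData p P E Z) : Cfsg.omegaOne p P = E := by
  unfold Cfsg.omegaOne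
  have : {x : Ω | x ∈ P ∧ x ^ p = 1} = (E : Set Ω) := by
    ext x; exact (D.mem_E x).symm
  rw [this, Subgroup.closure_eq]

theorem mem_zpowers_of_mem_Z [hp : Fact p.Prime] [Finite P] (D : OmegaData p P E Z) {u v : Ω}
    (hu : u ∈ Z) (hu1 : u ≠ 1) (hv : v ∈ Z) : v ∈ zpowers u := by
  have : Finite Z := Finite.of_injective (Subgroup.inclusion (D.Z_le.trans D.E_le))
    (Subgroup.inclusion_injective _)
  have hle : zpowers u ≤ Z := zpowers_le.2 hu
  have h1 : Nat.card (zpowers u) = p := by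
    rw [Nat.card_zpowers]; exact orderOf_eq_prime (D.pow_eq_one (D.Z_le hu)) hu1
  rw [Subgroup.eq_of_le_of_card_ge hle (by rw [h1]; exact D.card_Z)]
  exact hv

theorem comm_and_gen [hp : Fact p.Prime] [Finite P] (D : OmegaData p P E Z) {z y : Ω}
    (hz : z ∈ Z) (hz1 : z ≠ 1) (hy : y ∈ E) (hyZ : y ∉ Z) :
    (∀ a b : E, a * b = b * a) ∧
      ∀ e : E, ∃ i j : ℕ, e = (⟨z, D.Z_le hz⟩ : E) ^ i * (⟨y, hy⟩ : E) ^ j := by
  have : Finite E := Finite.of_injective (Subgroup.inclusion D.E_le)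
    (Subgroup.inclusion_injective _)
  apply comm_and_gen_of_card_le (p := p) _ D.card_E
  · intro h; apply hz1; exact congrArg Subtype.val h
  · rintro ⟨k, hk⟩
    apply hyZ
    have : z ^ k = y := by simpa using congrArg Subtype.val hk
    rw [← this]; exact Z.zpow_mem hz k
  · intro e
    exact Subtype.ext (by simpa using D.pow_eq_one e.2)

/-- no automorphism of `P` inverts `E = Ω₁(P)` unless `E` is central in `P`. -/
theorem false_of_inverting [hp : Fact p.Prime] [Finite P] (D : OmegaData p P E Z) (hp2 : p ≠ 2)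
    (hP : IsPGroup p P) {w g : Ω} (hw : w ∈ E) (hg : g ∈ P) (hne : w * g * w⁻¹ * g⁻¹ ≠ 1)
    (α : MulAut P) (hα : ∀ e : P, (e : Ω) ∈ E → α e = e⁻¹) : False := by
  set z := w * g * w⁻¹ * g⁻¹ with hz
  have hzZ : z ∈ Z := D.comm_mem w hw g hg
  have hzP : z ∈ P := D.E_le (D.Z_le hzZ)
  have hcen : ∀ x ∈ P, x * z = z * x := by
    intro x hx
    have := D.central z hzZ x hx
    calc x * z = x * z * x⁻¹ * x := by group
      _ = z * x := by rw [this]
  refine false_of_inverting_aut hp2 hP α ⟨z, hzP⟩ ⟨w, D.E_le hw⟩ ⟨g, hg⟩ ?_ ?_ ?_ ?_ ?_ ?_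
  · intro h; exact hne (congrArg Subtype.val h)
  · intro x; exact Subtype.ext (hcen x x.2)
  · exact Subtype.ext rfl
  · exact hα _ (D.Z_le hzZ)
  · exact hα _ hw
  · intro x hx
    have hx' : w * (x : Ω) * w⁻¹ * (x : Ω)⁻¹ = z := congrArg Subtype.val hx
    obtain ⟨k, hk⟩ := (IsPGroup.iff_orderOf.1 hP) x
    have hk0 : k ≠ 0 := by
      rintro rfl
      rw [pow_zero, orderOf_eq_one_iff] at hk
      apply hne
      rw [← hx', hk]; simp
    set x1 : P := x ^ p ^ (k - 1) with hx1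
    have hx1p : x1 ^ p = 1 := by
      rw [hx1, ← pow_mul, ← pow_succ, Nat.sub_add_cancel (Nat.pos_of_ne_zero hk0), ← hk,
        pow_orderOf_eq_one]
    have hx11 : x1 ≠ 1 := by
      apply pow_ne_one_of_lt_orderOf (pow_pos hp.out.pos _).ne'
      rw [hk]
      exact Nat.pow_lt_pow_right hp.out.one_lt (by omega)
    have hx1E : (x1 : Ω) ∈ E :=
      (D.mem_E _).2 ⟨x1.2, by simpa using congrArg Subtype.val hx1p⟩
    by_cases hxZ : (x1 : Ω) ∈ Z
    · obtain ⟨i, hi⟩ := D.mem_zpowers_of_mem_Z hxZ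
        (fun h => hx11 (Subtype.ext h)) hzZ
      have h1 : x1 ^ i = ⟨z, hzP⟩ := Subtype.ext (by simpa using hi)
      rw [← h1, hx1]
      exact zpow_mem (pow_mem (mem_zpowers x) _) _
    · exfalso
      obtain ⟨-, hgen⟩ := D.comm_and_gen hzZ hne hx1E hxZ
      obtain ⟨i, j, hij⟩ := hgen ⟨w, hw⟩
      have hw' : w = z ^ i * (x : Ω) ^ (p ^ (k - 1) * j) := by
        have := congrArg Subtype.val hij
        simpa [hx1, pow_mul] using this
      have hc1 : Commute (z ^ i) (x : Ω) := (show Commute z (x : Ω) from (hcen x x.2).symm).pow_left i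
      have hc2 : Commute ((x : Ω) ^ (p ^ (k - 1) * j)) (x : Ω) := (Commute.refl (x : Ω)).pow_left _
      have hc : Commute w (x : Ω) := by rw [hw']; exact hc1.mul_left hc2
      apply hne
      rw [← hx', hc.eq]; group

/-- if `E = Ω₁(P)` is not central in `P`, a group `A` of automorphisms of `E` containing the
conjugations by `P` and an element moving some `y ∉ Z` into `Z` contains the inversion. -/
theorem exists_inv [hp : Fact p.Prime] [Finite P] (D : OmegaData p P E Z)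
    (A : Subgroup (MulAut E)) (t β : MulAut E) (ht : t ∈ A) (hβ : β ∈ A) {w g : Ω} (hw : w ∈ E)
    (hg : g ∈ P) (hne : w * g * w⁻¹ * g⁻¹ ≠ 1) (htg : ∀ e : E, ((t e : E) : Ω) = g * e * g⁻¹)
    (y : E) (hy : (y : Ω) ∉ Z) (hβy : ((β y : E) : Ω) ∈ Z) : ∃ δ ∈ A, ∀ e : E, δ e = e⁻¹ := by
  set z := w * g * w⁻¹ * g⁻¹ with hz
  have hzZ : z ∈ Z := D.comm_mem w hw g hg
  obtain ⟨hcomm, hgen⟩ := D.comm_and_gen hzZ hne y.2 hy
  have hexp : ∀ e : E, e ^ p = 1 := fun e => Subtype.ext (by simpa using D.pow_eq_one e.2)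
  set zE : E := ⟨z, D.Z_le hzZ⟩ with hzE
  have hyE : (⟨(y : Ω), y.2⟩ : E) = y := rfl
  rw [hyE] at hgen
  -- `t` fixes `Z` pointwise
  have htZ : ∀ e : E, (e : Ω) ∈ Z → t e = e := by
    intro e he
    exact Subtype.ext (by rw [htg]; exact D.central _ he g hg)
  -- `t e * e⁻¹ ∈ Z`
  have htE : ∀ e : E, ((t e * e⁻¹ : E) : Ω) ∈ Z := by
    intro e
    have h1 := Z.inv_mem (D.comm_mem e e.2 g hg)
    have h2 : ((t e * e⁻¹ : E) : Ω) = ((e : Ω) * g * (e : Ω)⁻¹ * g⁻¹)⁻¹ := by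
      rw [Subgroup.coe_mul, htg]; simp only [Subgroup.coe_inv]; group
    rw [h2]; exact h1
  have memz : ∀ (u e : E), (u : Ω) ∈ Z → u ≠ 1 → (e : Ω) ∈ Z → e ∈ zpowers u := by
    intro u e hu hu1 he
    obtain ⟨i, hi⟩ := D.mem_zpowers_of_mem_Z hu (fun h => hu1 (Subtype.ext h)) he
    exact ⟨i, Subtype.ext (by simpa using hi)⟩
  have hzE1 : zE ≠ 1 := fun h => hne (congrArg Subtype.val h)
  have htw : t ⟨w, hw⟩ ≠ ⟨w, hw⟩ := by
    intro h
    have h1 : g * w * g⁻¹ = w := by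
      have := congrArg Subtype.val h
      rwa [htg] at this
    apply hne
    calc w * g * w⁻¹ * g⁻¹ = w * (g * w * g⁻¹)⁻¹ := by group
      _ = 1 := by rw [h1]; group
  have fix_all : ∀ s : MulAut E, s zE = zE → s y = y → ∀ e, s e = e := by
    intro s h1 h2 e
    obtain ⟨i, j, rfl⟩ := hgen e
    rw [map_mul, map_pow, map_pow, h1, h2]
  have hty : t y ≠ y := fun h => htw (fix_all t (htZ zE hzZ) h _)
  have hy1 : y ≠ 1 := by
    rintro rfl
    exact hy Z.one_mem
  have hβy1 : β y ≠ 1 := by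
    intro h
    apply hy1
    apply β.injective
    rw [h, map_one]
  set t' := β⁻¹ * t * β with ht'
  have ht'y : t' y = y := by
    rw [ht', MulAut.mul_apply, MulAut.mul_apply, htZ _ hβy, MulAut.inv_apply,
      MulEquiv.symm_apply_apply]
  have ht'z : t' zE ≠ zE := by
    intro h
    have h1 : ∀ e, t' e = e := fix_all t' h ht'y
    apply hty
    have h2 := h1 (β⁻¹ y)
    rw [ht', MulAut.mul_apply, MulAut.mul_apply, MulAut.apply_inv_self] at h2
    have h3 := congrArg β h2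
    rwa [MulAut.apply_inv_self, MulAut.apply_inv_self] at h3
  refine exists_inv_of_transvections hcomm hexp zE y hgen A t t' ht
    (A.mul_mem (A.mul_mem (A.inv_mem hβ) ht) hβ) (htZ zE hzZ) hty
    (memz zE _ hzZ hzE1 (htE y)) ht'y ht'z ?_
  -- `t' z * z⁻¹ = β⁻¹ (t (β z) * (β z)⁻¹) ∈ β⁻¹ (Z) = ⟨y⟩`
  have h1 : t' zE * zE⁻¹ = β⁻¹ (t (β zE) * (β zE)⁻¹) := by
    rw [map_mul, map_inv, MulAut.inv_apply_self, ht', MulAut.mul_apply, MulAut.mul_apply]
  obtain ⟨i, hi⟩ := memz (β y) _ hβy hβy1 (htE (β zE))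
  rw [h1, ← hi]
  refine ⟨i, ?_⟩
  simp only [map_zpow, MulAut.inv_apply_self]

end OmegaData

end Cfsg.Agent.Lib.Helper64
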